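import Cfsg.Agent.ShortPres.SLRel
import Cfsg.Agent.SLMult.Main

/-!
# `SL(2, F)` is generated by two elements
-/

set_option autoImplicit false

namespace Cfsg.Agent.ShortPres

open Matrix Cfsg.Agent.SL2Pres
open scoped MatrixGroups

universe u

variable {F : Type u} [Field F] [Fintype F]

theorem sl_two_gen (hq : 4 ≤ Fintype.card F) {ν : Fˣ} (hν : orderOf ν = Fintype.card F - 1) :
    Subgroup.closure ({dM ν, uM 1 * wM} : Set SL(2, F)) = ⊤ := by
  set K := Subgroup.closure ({dM ν, uM 1 * wM} : Set SL(2, F))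
  have hh : dM ν ∈ K := Subgroup.subset_closure (Set.mem_insert _ _)
  have hg : uM 1 * wM ∈ K := Subgroup.subset_closure (Set.mem_insert_of_mem _ (Set.mem_singleton _))
  set c : F := 1 - (((ν⁻¹ : Fˣ) : F)) ^ 2
  have hc : c ≠ 0 := by
    intro h
    have h2 : (ν⁻¹ : Fˣ) ^ 2 = 1 := Units.ext (by rw [Units.val_pow_eq_pow_val, Units.val_one]; exact (sub_eq_zero.mp h).symm)
    rw [inv_pow, inv_eq_one] at h2
    have := Nat.le_of_dvd (by norm_num) (orderOf_dvd_of_pow_eq_one h2)
    omega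
  have hneg : ∀ b : F, uM (-b) = (uM b)⁻¹ := fun b =>
    eq_inv_of_mul_eq_one_left (by rw [← uM_add, neg_add_cancel, uM_zero])
  have hinv : dM ν⁻¹ = (dM ν)⁻¹ := map_inv dHom ν
  have huc : uM c ∈ K := by
    have e : uM c = uM 1 * wM * dM ν * (uM 1 * wM)⁻¹ * dM ν := by
      rw [show uM 1 * wM * dM ν * (uM 1 * wM)⁻¹ * dM ν =
        uM 1 * (wM * dM ν * (wM : SL(2, F))⁻¹) * (uM 1)⁻¹ * dM ν by group, wM_conj_dM]
      have h1 : (dM ν)⁻¹ * (uM 1)⁻¹ * dM ν = uM (-((((ν⁻¹ : Fˣ) : F)) ^ 2)) := by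
        have := dM_conj_uM ν⁻¹ (-1 : F)
        rw [hinv, inv_inv, mul_neg, mul_one, hneg 1] at this
        exact this
      rw [show uM 1 * (dM ν)⁻¹ * (uM 1)⁻¹ * dM ν = uM 1 * ((dM ν)⁻¹ * (uM 1)⁻¹ * dM ν) by group, h1,
        ← uM_add, ← sub_eq_add_neg]
    rw [e]
    exact mul_mem (mul_mem (mul_mem hg hh) (inv_mem hg)) hh
  let S : AddSubgroup F :=
    { carrier := {b | uM (c * b) ∈ K}
      zero_mem' := by simp [uM_zero, one_mem]
      add_mem' := fun {a b} ha hb => by
        simp only [Set.mem_setOf_eq] at ha hb ⊢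
        rw [mul_add, uM_add]; exact mul_mem ha hb
      neg_mem' := fun {a} ha => by
        simp only [Set.mem_setOf_eq] at ha ⊢
        rw [mul_neg, hneg]; exact inv_mem ha }
  have hS : ∀ a : F, a * a ∈ S := by
    intro a
    rcases eq_or_ne a 0 with rfl | ha
    · rw [zero_mul]; exact S.zero_mem
    obtain ⟨i, rfl⟩ := exists_pow_eq hν ha
    show uM (c * _) ∈ K
    have := dM_conj_uM (ν ^ i) c
    rw [dM_pow, Units.val_pow_eq_pow_val] at this
    rw [show c * ((ν : F) ^ i * (ν : F) ^ i) = ((ν : F) ^ i) ^ 2 * c by ring, ← this]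
    exact mul_mem (mul_mem (pow_mem hh i) huc) (inv_mem (pow_mem hh i))
  have hu1 : uM 1 ∈ K := by
    have : uM (c * c⁻¹) ∈ K := SLMult.Sys.squares_generate S hS c⁻¹
    rwa [mul_inv_cancel₀ hc] at this
  have hw : wM ∈ K := by
    have := mul_mem (inv_mem hu1) hg
    rwa [inv_mul_cancel_left] at this
  rw [eq_top_iff, ← gens_closure hν, Subgroup.closure_le]
  rintro x (rfl | rfl | rfl)
  · exact hu1
  · exact hh
  · exact hw

theorem sl_two_pair (F : Type u) [Field F] [Fintype F] :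
    ∃ a b : SL(2, F), Subgroup.closure ({a, b} : Set SL(2, F)) = ⊤ := by
  obtain ⟨ν, hν⟩ := exists_gen_unit F
  rcases le_or_gt 4 (Fintype.card F) with hq | hq
  · exact ⟨_, _, sl_two_gen hq hν⟩
  refine ⟨uM 1, wM, ?_⟩
  rw [eq_top_iff, ← gens_closure hν, Subgroup.closure_le]
  have hw : (wM : SL(2, F)) ∈ Subgroup.closure ({uM 1, wM} : Set SL(2, F)) :=
    Subgroup.subset_closure (Set.mem_insert_of_mem _ (Set.mem_singleton _))
  rintro x (rfl | rfl | rfl)
  · exact Subgroup.subset_closure (Set.mem_insert _ _)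
  · have h2 : ν ^ 2 = 1 := by
      have h1 : 1 < Fintype.card F := Fintype.one_lt_card
      have := pow_orderOf_eq_one ν
      rw [hν] at this
      rcases (show Fintype.card F - 1 = 1 ∨ Fintype.card F - 1 = 2 by omega) with h | h
      · rw [h, pow_one] at this
        rw [this, one_pow]
      · rwa [h] at this
    rcases mul_self_eq_one_iff.mp (show (ν : F) * ν = 1 by
        rw [← Units.val_mul, ← sq, h2, Units.val_one]) with h | h
    · rw [show ν = 1 from Units.ext h, show dM (1 : Fˣ) = 1 from map_one dHom]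
      exact one_mem _
    · have : dM ν = wM * (wM : SL(2, F)) := by
        ext i j
        fin_cases i <;> fin_cases j <;>
          simp [Matrix.SpecialLinearGroup.coe_mul, Matrix.mul_apply, Fin.sum_univ_two, dM_coe, wM_coe, h]
      rw [this]
      exact mul_mem hw hw
  · exact hw

end Cfsg.Agent.ShortPres
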