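import Cfsg.Agent.ShortPres.AltGlue

/-!
# Gluing an alternating group with its image under an involution
-/

set_option autoImplicit false

namespace Cfsg.Agent.ShortPres

open Equiv Equiv.Perm Cfsg.Agent.AltMult

theorem commute_of_conj {G : Type*} [Group G] {z x y : G} (h : Commute x (z⁻¹ * y * z)) :
    Commute (z * x * z⁻¹) y := by
  have := h.map (MulAut.conj z).toMonoidHom
  simp only [MulEquiv.coe_toMonoidHom, MulAut.conj_apply] at this
  rwa [show z * (z⁻¹ * y * z) * z⁻¹ = y by group] at this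

universe u

variable {β : Type u} [Fintype β] [DecidableEq β]

/-- An alternating group and its image under an involution glue to the big alternating group with
eight more relations. -/
theorem alt_glue_sym_aux {r : ℕ} (A B : Finset β) {u v : β} (huv : u ≠ v) (hAB : Disjoint A B)
    (hA : u ∉ A ∧ v ∉ A) (hB : u ∉ B ∧ v ∉ B) (τ : alternatingGroup β) (hτu : τ.1 u = u)
    (hτv : τ.1 v = v) (hτ2 : ∀ x, τ.1 (τ.1 x) = x) (hτA : ∀ x, x ∈ A ↔ τ.1 x ∈ B)
    (hO : 2 ≤ Fintype.card {x : β // x ∉ A ∧ x ∉ B ∧ x ≠ u ∧ x ≠ v})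
    (h1 : HasPres (alternatingGroup {x : β // x ∉ B}) r) :
    HasPres (alternatingGroup β) (r + 8) := by
  classical
  have hτB : ∀ x, x ∈ B ↔ τ.1 x ∈ A := fun x => by rw [hτA (τ.1 x), hτ2]
  let f1 : {x : β // x ∉ B} ↪ β := Function.Embedding.subtype _
  let j1 : {x : β // x ∉ A ∧ x ∉ B} ↪ {x : β // x ∉ B} :=
    ⟨fun x => ⟨x.1, x.2.2⟩, fun x y h =>
      Subtype.ext (congrArg (fun z : {x : β // x ∉ B} => z.1) h)⟩
  let jτ : {x : β // x ∉ A ∧ x ∉ B} ↪ {x : β // x ∉ B} :=
    ⟨fun x => ⟨τ.1 x.1, fun h => x.2.1 ((hτA x.1).mpr h)⟩, fun x y h =>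
      Subtype.ext (τ.1.injective (congrArg (fun z : {x : β // x ∉ B} => z.1) h))⟩
  let kA : {x : β // x ∈ A} ↪ {x : β // x ∉ B} :=
    ⟨fun x => ⟨x.1, Finset.disjoint_left.mp hAB x.2⟩, fun x y h =>
      Subtype.ext (congrArg (fun z : {x : β // x ∉ B} => z.1) h)⟩
  let u1 : {x : β // x ∉ B} := ⟨u, hB.1⟩
  let v1 : {x : β // x ∉ B} := ⟨v, hB.2⟩
  let u0 : {x : β // x ∉ A ∧ x ∉ B} := ⟨u, hA.1, hB.1⟩
  let v0 : {x : β // x ∉ A ∧ x ∉ B} := ⟨v, hA.2, hB.2⟩
  have huv1 : u1 ≠ v1 := fun h => huv (congrArg Subtype.val h)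
  have huv0 : u0 ≠ v0 := fun h => huv (congrArg Subtype.val h)
  let r1 : ∀ z : Rest u v, z.1 ∉ B → Rest u1 v1 := fun z h =>
    ⟨⟨z.1, h⟩, fun e => z.2.1 (congrArg Subtype.val e), fun e => z.2.2 (congrArg Subtype.val e)⟩
  let tz : Rest u v → Rest u v := fun z =>
    ⟨τ.1 z.1, fun e => z.2.1 (τ.1.injective (e.trans hτu.symm)),
      fun e => z.2.2 (τ.1.injective (e.trans hτv.symm))⟩
  have htz : ∀ z : Rest u v, z.1 ∈ B → (tz z).1 ∉ B := fun z h =>
    Finset.disjoint_left.mp hAB ((hτB z.1).mp h)
  let C := Monoid.Coprod (alternatingGroup {x : β // x ∉ B}) (FreeGroup (Fin 1))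
  let i1 : alternatingGroup {x : β // x ∉ B} →* C := Monoid.Coprod.inl
  let Z : C := Monoid.Coprod.inr (FreeGroup.of 0)
  let Φ : C →* alternatingGroup β := Monoid.Coprod.lift (altMap f1) (FreeGroup.lift fun _ => τ)
  have hΦ1 : ∀ g, Φ (i1 g) = altMap f1 g := fun g => Monoid.Coprod.lift_apply_inl _ _ g
  have hΦZ : Φ Z = τ := (Monoid.Coprod.lift_apply_inr _ _ _).trans FreeGroup.lift_apply_of
  have hΦc1 : ∀ z h, Φ (i1 (cycR huv1 (r1 z h))) = cycR huv z := fun z h => by
    rw [hΦ1, altMap_cycR]; rfl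
  have hτc : ∀ z, τ * cycR huv z * τ⁻¹ = cycR huv (tz z) := fun z =>
    conj_cycR huv τ hτu hτv z (tz z) rfl
  let EC : Rest u v → C := fun z =>
    if h : z.1 ∈ B then Z * i1 (cycR huv1 (r1 (tz z) (htz z h))) * Z⁻¹
    else i1 (cycR huv1 (r1 z h))
  have hΦEC : ∀ z, Φ (EC z) = cycR huv z := by
    intro z
    by_cases h : z.1 ∈ B
    · simp only [EC, dif_pos h]
      rw [map_mul, map_mul, map_inv, hΦZ, hΦc1, hτc]
      congr 1
      exact Subtype.ext (hτ2 z.1)
    · simp only [EC, dif_neg h]; exact hΦc1 z h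
  let GE : Subgroup C := Subgroup.closure (Set.range EC)
  have hGE : ∀ x, ∃ w ∈ GE, Φ w = x := by
    have : (⊤ : Subgroup (alternatingGroup β)) ≤ GE.map Φ := by
      rw [← closure_cycR huv, Subgroup.closure_le]
      rintro _ ⟨z, rfl⟩
      exact ⟨EC z, Subgroup.subset_closure ⟨z, rfl⟩, hΦEC z⟩
    exact fun x => this (Subgroup.mem_top x)
  have hΦs : Function.Surjective Φ := fun x => let ⟨w, _, e⟩ := hGE x; ⟨w, e⟩
  obtain ⟨w, hwG, hw⟩ := hGE τ
  obtain ⟨o1, o2, ho⟩ := alt_two_gen {x : β // x ∉ A ∧ x ∉ B}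
  let com : C → C → C := fun x y => x * y * x⁻¹ * y⁻¹
  have hΦcom : ∀ x y, Commute (Φ x) (Φ y) → Φ (com x y) = 1 := fun x y h => by
    show Φ (x * y * x⁻¹ * y⁻¹) = 1
    rw [map_mul, map_mul, map_mul, map_inv, map_inv, h.eq]
    group
  have hA3 : ∀ z : Rest u v, z.1 ∈ A → z.1 ∉ B := fun z h => Finset.disjoint_left.mp hAB h
  have hcross : ∀ i j : Rest u v, i.1 ∈ A → j.1 ∈ B → Φ ((EC i * EC j) ^ 2) = 1 := fun i j hi hj => by
    rw [map_pow, map_mul, hΦEC, hΦEC]
    exact cycR_sq huv i j fun h => hA3 i hi (h ▸ hj)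
  -- the common part is transported correctly
  let SO : Finset C := {Z * i1 (altMap j1 o1) * Z⁻¹ * (i1 (altMap jτ o1))⁻¹,
    Z * i1 (altMap j1 o2) * Z⁻¹ * (i1 (altMap jτ o2))⁻¹}
  have hΦo : ∀ o, Φ (Z * i1 (altMap j1 o) * Z⁻¹) = Φ (i1 (altMap jτ o)) := by
    intro o
    have : (⊤ : Subgroup (alternatingGroup {x : β // x ∉ A ∧ x ∉ B})) ≤
        ((MulAut.conj τ).toMonoidHom.comp ((altMap f1).comp (altMap j1))).eqLocus
          ((altMap f1).comp (altMap jτ)) := by
      rw [← closure_cycR huv0, Subgroup.closure_le]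
      rintro _ ⟨z, rfl⟩
      show τ * altMap f1 (altMap j1 (cycR huv0 z)) * τ⁻¹ = altMap f1 (altMap jτ (cycR huv0 z))
      rw [altMap_cycR, altMap_cycR, altMap_cycR, altMap_cycR]
      apply Subtype.ext
      show τ.1 * cyc u v z.1.1 * τ.1⁻¹ = cyc (τ.1 u) (τ.1 v) (τ.1 z.1.1)
      rw [conj_cyc]
    rw [map_mul, map_mul, map_inv, hΦZ, hΦ1, hΦ1]
    exact this (Subgroup.mem_top o)
  -- the cross relations
  obtain ⟨SX, hSXcard, hSXone, hSX⟩ : ∃ SX : Finset C, SX.card ≤ 4 ∧ (∀ x ∈ SX, Φ x = 1) ∧
      ∀ {Q : Type u} [Group Q] (q : C →* Q), (∀ x ∈ SX, q x = 1) → q Z * q Z = 1 →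
        (∀ o, q Z * q (i1 (altMap j1 o)) * (q Z)⁻¹ = q (i1 (altMap jτ o))) →
        ∀ i j : Rest u v, i.1 ∈ A → j.1 ∈ B → (q (EC i) * q (EC j)) ^ 2 = 1 := by
    rcases le_or_gt A.card 2 with hk | hk
    · let mkA : {x : β // x ∈ A} → Rest u v := fun a =>
        ⟨a.1, fun e => hA.1 (e ▸ a.2), fun e => hA.2 (e ▸ a.2)⟩
      refine ⟨Finset.univ.image fun p : {x : β // x ∈ A} × {x : β // x ∈ A} =>
        (EC (mkA p.1) * EC (tz (mkA p.2))) ^ 2, ?_, ?_, ?_⟩
      · refine Finset.card_image_le.trans ?_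
        rw [Finset.card_univ, Fintype.card_prod, Fintype.card_coe]
        nlinarith [hk]
      · intro x hx
        obtain ⟨p, -, rfl⟩ := Finset.mem_image.mp hx
        exact hcross _ _ p.1.2 ((hτA _).mp p.2.2)
      · intro Q _ q hq _ _ i j hi hj
        rw [← map_mul, ← map_pow]
        refine hq _ (Finset.mem_image.mpr
          ⟨(⟨i.1, hi⟩, ⟨τ.1 j.1, (hτB j.1).mp hj⟩), Finset.mem_univ _, ?_⟩)
        have : tz (mkA ⟨τ.1 j.1, (hτB j.1).mp hj⟩) = j := Subtype.ext (hτ2 j.1)
        simp only [this]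
        rfl
    obtain ⟨a1, a2, ha⟩ := alt_two_gen {x : β // x ∈ A}
    obtain ⟨a0, ha0⟩ : A.Nonempty := Finset.card_pos.mp (by omega)
    -- a long cycle on `A` and one or two further points
    obtain ⟨c, hcu, hcv, o, hoA, hoB, hou, hov, hcyc⟩ :
        ∃ c : alternatingGroup {x : β // x ∉ B}, c.1 u1 = u1 ∧ c.1 v1 = v1 ∧ ∃ o : β, o ∉ A ∧
          ∃ hoB : o ∉ B, o ≠ u ∧ o ≠ v ∧
            ∀ x : {x : β // x ∉ B}, x.1 ∈ A → ∃ t : ℕ, (c.1 ^ t) ⟨o, hoB⟩ = x := by
      obtain ⟨⟨o, hoA, hoB, hou, hov⟩, ⟨o', hoA', hoB', hou', hov'⟩, hne⟩ :=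
        Fintype.exists_pair_of_one_lt_card (show 1 < Fintype.card _ from hO)
      have hoo : o ≠ o' := fun h => hne (Subtype.ext h)
      let mkB : {x : β // x ∈ A} → {x : β // x ∉ B} := fun a => kA a
      let L : List {x : β // x ∉ B} := (Finset.univ : Finset {x : β // x ∈ A}).toList.map mkB
      have hLn : L.Nodup := (Finset.nodup_toList _).map kA.injective
      have hLlen : L.length = A.card := by
        simp [L, Fintype.card_coe]
      have hLmem : ∀ x : {x : β // x ∉ B}, x ∈ L → x.1 ∈ A := by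
        intro x hx
        obtain ⟨a, -, rfl⟩ := List.mem_map.mp hx
        exact a.2
      have hmemL : ∀ x : {x : β // x ∉ B}, x.1 ∈ A → x ∈ L := fun x hx =>
        List.mem_map.mpr ⟨⟨x.1, hx⟩, Finset.mem_toList.mpr (Finset.mem_univ _), rfl⟩
      let L' : List {x : β // x ∉ B} :=
        if Even A.card then ⟨o, hoB⟩ :: L else ⟨o, hoB⟩ :: ⟨o', hoB'⟩ :: L
      have hL'n : L'.Nodup := by
        by_cases he : Even A.card
        · simp only [L', if_pos he]
          exact List.nodup_cons.mpr ⟨fun h => hoA (hLmem _ h), hLn⟩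
        · simp only [L', if_neg he]
          refine List.nodup_cons.mpr ⟨?_, List.nodup_cons.mpr ⟨fun h => hoA' (hLmem _ h), hLn⟩⟩
          simp only [List.mem_cons, not_or]
          exact ⟨fun h => hoo (congrArg Subtype.val h), fun h => hoA (hLmem _ h)⟩
      have hlen : Odd L'.length := by
        by_cases he : Even A.card
        · simp only [L', if_pos he, List.length_cons, hLlen]
          exact he.add_one
        · simp only [L', if_neg he, List.length_cons, hLlen]
          exact ((Nat.not_even_iff_odd.mp he).add_one).add_one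
      have hfix : ∀ x : {x : β // x ∉ B}, x.1 ∉ A → x.1 ≠ o → x.1 ≠ o' → L'.formPerm x = x := by
        intro x h1 h2 h3
        refine List.formPerm_apply_of_notMem fun h => ?_
        by_cases he : Even A.card
        · simp only [L', if_pos he, List.mem_cons] at h
          rcases h with h | h
          · exact h2 (congrArg Subtype.val h)
          · exact h1 (hLmem _ h)
        · simp only [L', if_neg he, List.mem_cons] at h
          rcases h with h | h | h
          · exact h2 (congrArg Subtype.val h)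
          · exact h3 (congrArg Subtype.val h)
          · exact h1 (hLmem _ h)
      have hsgn : sign L'.formPerm = 1 := by
        have h2 : 2 ≤ L'.length := by
          by_cases he : Even A.card <;> simp only [L', he, if_true, if_false, List.length_cons, hLlen] <;> omega
        have hc := List.isCycle_formPerm hL'n h2
        rw [hc.sign, List.support_formPerm_of_nodup _ hL'n (fun x h => by rw [h] at h2; simp at h2),
          List.toFinset_card_of_nodup hL'n]
        rw [hlen.neg_one_pow]; simp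
      refine ⟨⟨L'.formPerm, mem_alternatingGroup.mpr hsgn⟩, hfix u1 hA.1 hou.symm hou'.symm,
        hfix v1 hA.2 hov.symm hov'.symm, o, hoA, hoB, hou, hov, fun x hx => ?_⟩
      have hxm : x ∈ L' := by
        by_cases he : Even A.card <;> simp [L', he, hmemL x hx]
      have hom : (⟨o, hoB⟩ : {x : β // x ∉ B}) ∈ L' := by
        by_cases he : Even A.card <;> simp [L', he]
      obtain ⟨s, hs, rfl⟩ := List.mem_iff_getElem.mp hxm
      refine ⟨s, ?_⟩
      have h0 : L'[0]'(by omega) = ⟨o, hoB⟩ := by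
        by_cases he : Even A.card <;> simp [L', he]
      rw [← h0, List.formPerm_pow_apply_getElem _ hL'n]
      simp [Nat.mod_eq_of_lt hs]
    let GA : alternatingGroup {x : β // x ∈ A} →* C := i1.comp (altMap kA)
    let GB : alternatingGroup {x : β // x ∈ A} →* C := (MulAut.conj Z).toMonoidHom.comp GA
    let i0 : Rest u v := ⟨a0, fun e => hA.1 (e ▸ ha0), fun e => hA.2 (e ▸ ha0)⟩
    refine ⟨{com (GB a1) (i1 c), com (GB a2) (i1 c), (EC i0 * EC (tz i0)) ^ 2}, ?_, ?_, ?_⟩
    · exact Finset.card_le_three.trans (by norm_num)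
    · have hBc : ∀ a, Commute (Φ (GB a)) (Φ (i1 c)) := by
        intro a
        show Commute (Φ (Z * i1 (altMap kA a) * Z⁻¹)) (Φ (i1 c))
        rw [map_mul, map_mul, map_inv, hΦZ, hΦ1, hΦ1, altMap_trans]
        let gτ : {x : β // x ∈ A} ↪ β :=
          ⟨fun x => τ.1 x.1, fun x y h => Subtype.ext (τ.1.injective h)⟩
        have e : τ * altMap (kA.trans f1) a * τ⁻¹ = altMap gτ a := by
          apply Subtype.ext
          ext x
          show τ.1 (permMap (kA.trans f1) a.1 (τ.1⁻¹ x)) = permMap gτ a.1 x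
          by_cases hx : x ∈ Set.range gτ
          · obtain ⟨y, rfl⟩ := hx
            rw [permMap_apply, show τ.1⁻¹ (gτ y) = (kA.trans f1) y from τ.1.symm_apply_apply y.1,
              permMap_apply]
            rfl
          · rw [permMap_of_notMem gτ _ hx, permMap_of_notMem]
            · simp
            · rintro ⟨y, hy⟩
              exact hx ⟨y, by
                show τ.1 ((kA.trans f1) y) = x
                rw [hy]; simp⟩
        rw [e]
        exact altMap_commute gτ f1 (fun x y h => y.2 (by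
          have h' : τ.1 x.1 = y.1 := h
          rw [← h']
          exact (hτA x.1).mp x.2)) a c
      intro x hx
      simp only [Finset.mem_insert, Finset.mem_singleton] at hx
      rcases hx with rfl | rfl | rfl
      · exact hΦcom _ _ (hBc _)
      · exact hΦcom _ _ (hBc _)
      · exact hcross i0 (tz i0) ha0 ((hτA a0).mp ha0)
    · intro Q _ q hq hZ2 hOO
      let Qz : Q →* Q := (MulAut.conj (q Z)).toMonoidHom
      have hQz : ∀ x, Qz x = q Z * x * (q Z)⁻¹ := fun x => rfl
      have hZinv : (q Z)⁻¹ = q Z := inv_eq_of_mul_eq_one_right hZ2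
      have hQQ : ∀ x, Qz (Qz x) = x := fun x => by
        simp only [hQz, hZinv]
        rw [show q Z * (q Z * x * q Z) * q Z = q Z * q Z * x * (q Z * q Z) by group, hZ2]
        group
      have hcomm : ∀ x y, q (com x y) = 1 → Commute (q x) (q y) := fun x y h => by
        change q (x * y * x⁻¹ * y⁻¹) = 1 at h
        rw [map_mul, map_mul, map_mul, map_inv, map_inv, mul_inv_eq_one, mul_inv_eq_iff_eq_mul] at h
        exact h
      have hAo : ∀ a o', Commute (q (GA a)) (q (i1 (altMap jτ o'))) := fun a o' =>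
        ((altMap_commute kA jτ (fun x y h => Finset.disjoint_left.mp hAB x.2 (by
          have h' : x.1 = τ.1 y.1 := congrArg (fun z : {x : β // x ∉ B} => z.1) h
          exact absurd ((hτB y.1).mpr (h' ▸ x.2)) y.2.2)) a o').map i1).map q
      have hBo : ∀ a o', Commute (q (GB a)) (q (i1 (altMap j1 o'))) := by
        intro a o'
        have := (hAo a o').map Qz
        rw [hQz, hQz] at this
        have e : q Z * q (i1 (altMap jτ o')) * (q Z)⁻¹ = q (i1 (altMap j1 o')) := by
          rw [← hOO o', ← hQz, ← hQz, hQQ]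
        rw [e] at this
        show Commute (q (Z * GA a * Z⁻¹)) _
        rwa [map_mul, map_mul, map_inv]
      have hBc : ∀ a, Commute (q (GB a)) (q (i1 c)) := fun a => by
        have : (⊤ : Subgroup (alternatingGroup {x : β // x ∈ A})) ≤
            (Subgroup.centralizer {q (i1 c)}).comap (q.comp GB) := by
          rw [← ha, Subgroup.closure_le]
          rintro y (rfl | rfl)
          · exact Subgroup.mem_centralizer_singleton_iff.mpr (hcomm _ _ (hq _ (by simp))).eq
          · exact Subgroup.mem_centralizer_singleton_iff.mpr (hcomm _ _ (hq _ (by simp))).eq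
        exact Subgroup.mem_centralizer_singleton_iff.mp (this (Subgroup.mem_top a))
      have hB1 : ∀ a g, Commute (q (GB a)) (q (i1 g)) := by
        intro a g
        let K : Subgroup (alternatingGroup {x : β // x ∉ B}) :=
          (Subgroup.centralizer {q (GB a)}).comap (q.comp i1)
        have hmem : ∀ g, g ∈ K ↔ Commute (q (i1 g)) (q (GB a)) := fun g =>
          Subgroup.mem_centralizer_singleton_iff
        have hcK : c ∈ K := (hmem c).mpr (hBc a).symm
        have hK : K = ⊤ := by
          refine closure_cycA_eq_top huv1 K fun x hxu hxv => ?_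
          let xz : Rest u v :=
            ⟨x.1, fun e => hxu (Subtype.ext e), fun e => hxv (Subtype.ext e)⟩
          show cycR huv1 (r1 xz x.2) ∈ K
          by_cases hxA : x.1 ∈ A
          · obtain ⟨t, ht⟩ := hcyc x hxA
            let oz : Rest u v := ⟨o, hou, hov⟩
            have hoK : cycR huv1 (r1 oz hoB) ∈ K := by
              rw [hmem]
              have := (hBo a (cycR huv0 ⟨⟨o, hoA, hoB⟩, fun e => hou (congrArg Subtype.val e),
                fun e => hov (congrArg Subtype.val e)⟩)).symm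
              rw [altMap_cycR] at this
              exact this
            have e : c ^ t * cycR huv1 (r1 oz hoB) * (c ^ t)⁻¹ = cycR huv1 (r1 xz x.2) := by
              refine conj_cycR huv1 (c ^ t) ?_ ?_ _ _ ?_
              · rw [SubgroupClass.coe_pow, Equiv.Perm.pow_apply_eq_self_of_apply_eq_self hcu]
              · rw [SubgroupClass.coe_pow, Equiv.Perm.pow_apply_eq_self_of_apply_eq_self hcv]
              · rw [SubgroupClass.coe_pow]; exact ht
            rw [← e]
            exact mul_mem (mul_mem (pow_mem hcK t) hoK) (inv_mem (pow_mem hcK t))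
          · rw [hmem]
            have := (hBo a (cycR huv0 ⟨⟨x.1, hxA, x.2⟩, fun e => hxu (Subtype.ext (congrArg (fun z : {x : β // x ∉ A ∧ x ∉ B} => z.1) e)),
              fun e => hxv (Subtype.ext (congrArg (fun z : {x : β // x ∉ A ∧ x ∉ B} => z.1) e))⟩)).symm
            rw [altMap_cycR] at this
            exact this
        exact ((hmem g).mp (hK.ge (Subgroup.mem_top g))).symm
      have hEB : ∀ j : Rest u v, ∀ hj : j.1 ∈ B,
          q (EC j) = Qz (q (i1 (cycR huv1 (r1 (tz j) (htz j hj))))) := fun j hj => by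
        simp only [EC, dif_pos hj]
        rw [map_mul, map_mul, map_inv]
        rfl
      intro i j hi hj
      obtain ⟨g, hg⟩ := exists_even_move (α := {x : β // x ∈ A})
        (by rw [Fintype.card_coe]; omega) ⟨a0, ha0⟩ ⟨i.1, hi⟩
      obtain ⟨h, hh⟩ := exists_even_move (α := {x : β // x ∈ A})
        (by rw [Fintype.card_coe]; omega) ⟨a0, ha0⟩ ⟨τ.1 j.1, (hτB j.1).mp hj⟩
      have move : ∀ (g : alternatingGroup {x : β // x ∈ A}) (z : Rest u v) (hz : z.1 ∈ A),
          g.1 ⟨a0, ha0⟩ = ⟨z.1, hz⟩ →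
          altMap kA g * cycR huv1 (r1 i0 (hA3 i0 ha0)) * (altMap kA g)⁻¹ =
            cycR huv1 (r1 z (hA3 z hz)) := by
        intro g z hz hg
        refine conj_cycR huv1 _ ?_ ?_ _ _ ?_
        · exact permMap_of_notMem _ _ fun ⟨y, hy⟩ => hA.1 (by
            have h' : y.1 = u := congrArg Subtype.val hy
            rw [← h']; exact y.2)
        · exact permMap_of_notMem _ _ fun ⟨y, hy⟩ => hA.2 (by
            have h' : y.1 = v := congrArg Subtype.val hy
            rw [← h']; exact y.2)
        · show permMap kA (g : Perm _) (kA ⟨a0, ha0⟩) = _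
          rw [permMap_apply, hg]
          rfl
      have hEi : ∀ z : Rest u v, ∀ hz : z.1 ∈ A, q (EC z) = q (i1 (cycR huv1 (r1 z (hA3 z hz)))) :=
        fun z hz => by simp only [EC, dif_neg (hA3 z hz)]
      set X := q (GA g)
      set Y := q (GB h)
      set Ei := q (i1 (cycR huv1 (r1 i0 (hA3 i0 ha0))))
      have hY : Y = Qz (q (GA h)) := by
        show q (Z * GA h * Z⁻¹) = _
        rw [map_mul, map_mul, map_inv]
        rfl
      have e1 : q (EC i) = X * Ei * X⁻¹ := by
        rw [hEi i hi, ← move g i hi hg, map_mul, map_mul, map_inv, map_mul, map_mul, map_inv]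
        rfl
      have e2 : q (EC j) = Y * Qz Ei * Y⁻¹ := by
        rw [hEB j hj, ← move h (tz j) ((hτB j.1).mp hj) hh, map_mul, map_mul, map_inv, map_mul,
          map_mul, map_inv, map_mul, map_mul, map_inv, hY]
        rfl
      have c1 : Commute Y X := hB1 h _
      have c2 : Commute Y Ei := hB1 h _
      have c3 : Commute X (Qz Ei) := by
        have h3 := (show Commute (q (GB g)) Ei from hB1 g _).map Qz
        have e : Qz (q (GB g)) = X := by
          show Qz (q (Z * GA g * Z⁻¹)) = _
          rw [map_mul q, map_mul q, map_inv q, ← hQz, hQQ]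
        rwa [e] at h3
      rw [e1, e2]
      have hEB' : Y * Qz Ei * Y⁻¹ = X * (Y * Qz Ei * Y⁻¹) * X⁻¹ := by
        have : Commute X (Y * Qz Ei * Y⁻¹) := (c1.symm.mul_right c3).mul_right c1.symm.inv_right
        rw [this.eq, mul_inv_cancel_right]
      rw [hEB']
      refine sq_conj ?_
      nth_rewrite 1 [show Ei = Y * Ei * Y⁻¹ by rw [c2.eq, mul_inv_cancel_right]]
      refine sq_conj ?_
      have := hq ((EC i0 * EC (tz i0)) ^ 2) (by simp)
      rw [map_pow, map_mul, hEi i0 ha0, hEB (tz i0) ((hτA a0).mp ha0)] at this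
      have hback : r1 (tz (tz i0)) (htz (tz i0) ((hτA a0).mp ha0)) = r1 i0 (hA3 i0 ha0) :=
        Subtype.ext (Subtype.ext (hτ2 a0))
      rwa [hback] at this
  refine ((h1.coprodFree 1).of_universal Φ hΦs (SO ∪ {Z * Z, Z * w⁻¹} ∪ SX) ?_ ?_).mono ?_
  · intro x hx
    simp only [SO, Finset.mem_union, Finset.mem_insert, Finset.mem_singleton] at hx
    rcases hx with ((rfl | rfl) | (rfl | rfl)) | h
    · rw [map_mul _ _ (i1 _)⁻¹, map_inv, hΦo, mul_inv_cancel]
    · rw [map_mul _ _ (i1 _)⁻¹, map_inv, hΦo, mul_inv_cancel]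
    · rw [map_mul, hΦZ]; exact Subtype.ext (Equiv.ext hτ2)
    · rw [map_mul, map_inv, hΦZ, hw, mul_inv_cancel]
    · exact hSXone x h
  · intro c hc
    set N := Subgroup.normalClosure (↑(SO ∪ {Z * Z, Z * w⁻¹} ∪ SX) : Set C)
    let q : C →* C ⧸ N := QuotientGroup.mk' N
    have hrel : ∀ y ∈ SO ∪ {Z * Z, Z * w⁻¹} ∪ SX, q y = 1 := fun y hy =>
      (QuotientGroup.eq_one_iff _).mpr (Subgroup.subset_normalClosure hy)
    have hZ2 : q Z * q Z = 1 := by rw [← map_mul]; exact hrel _ (by simp)
    have hO' : ∀ o, q Z * q (i1 (altMap j1 o)) * (q Z)⁻¹ = q (i1 (altMap jτ o)) := by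
      have : (MulAut.conj (q Z)).toMonoidHom.comp ((q.comp i1).comp (altMap j1)) =
          (q.comp i1).comp (altMap jτ) := by
        refine MonoidHom.eq_of_eqOn_dense ho ?_
        rintro o (rfl | rfl)
        · have h := hrel (Z * i1 (altMap j1 o) * Z⁻¹ * (i1 (altMap jτ o))⁻¹) (by simp [SO])
          rw [map_mul, map_mul, map_mul, map_inv, map_inv, mul_inv_eq_one] at h
          exact h
        · have h := hrel (Z * i1 (altMap j1 o) * Z⁻¹ * (i1 (altMap jτ o))⁻¹) (by simp [SO])
          rw [map_mul, map_mul, map_mul, map_inv, map_inv, mul_inv_eq_one] at h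
          exact h
      exact fun o => DFunLike.congr_fun this o
    let E : Rest u v → C ⧸ N := fun z => q (EC z)
    have hE1 : ∀ z h, E z = q (i1 (cycR huv1 (r1 z h))) := fun z h => by
      simp only [E, EC, dif_neg h]
    -- points outside `A` come from the transported copy
    have hE2 : ∀ z : Rest u v, ∀ h : (tz z).1 ∉ B,
        E z = MulAut.conj (q Z) (q (i1 (cycR huv1 (r1 (tz z) h)))) := by
      intro z h
      by_cases hz : z.1 ∈ B
      · simp only [E, EC, dif_pos hz, MulAut.conj_apply]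
        rw [map_mul, map_mul, map_inv]
      · have hzA : z.1 ∉ A := fun ha => h ((hτA z.1).mp ha)
        have htA : (tz z).1 ∉ A := fun ha => hz ((hτB z.1).mpr ha)
        rw [hE1 z hz]
        have := hO' (cycR huv0 ⟨⟨(tz z).1, htA, h⟩, fun e => (tz z).2.1 (congrArg Subtype.val e),
          fun e => (tz z).2.2 (congrArg Subtype.val e)⟩)
        rw [altMap_cycR, altMap_cycR] at this
        rw [MulAut.conj_apply]
        refine Eq.trans ?_ this.symm
        congr 2
        apply Subtype.ext
        show cyc u1 v1 _ = cyc (jτ u0) (jτ v0) _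
        have e0 : jτ u0 = u1 := Subtype.ext hτu
        have e1 : jτ v0 = v1 := Subtype.ext hτv
        exact congr (congrArg₂ cyc e0.symm e1.symm) (Subtype.ext (hτ2 z.1).symm)
    have hABcross : ∀ i j : Rest u v, i.1 ∈ A → j.1 ∈ B → (E i * E j) ^ 2 = 1 :=
      fun i j hi hj => hSX q (fun x hx => hrel x (Finset.mem_union_right _ hx)) hZ2 hO' i j hi hj
    obtain ⟨hfin, hle⟩ := carmichael_criterion huv E (fun z => by
        by_cases hz : z.1 ∈ B
        · rw [hE2 z (htz z hz), ← map_pow, ← map_pow q, ← map_pow i1, cycR_pow_three, map_one,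
            map_one, map_one]
        · rw [hE1 z hz, ← map_pow, ← map_pow, cycR_pow_three, map_one, map_one])
      (fun x y hxy => by
        by_cases hxA : x.1 ∈ A
        · by_cases hyB : y.1 ∈ B
          · exact hABcross x y hxA hyB
          · rw [hE1 x (hA3 x hxA), hE1 y hyB, ← map_mul q, ← map_mul i1, ← map_pow q, ← map_pow i1,
              cycR_sq huv1 _ _ (fun h => hxy (Subtype.ext (congrArg (fun w : Rest u1 v1 => w.1.1) h))),
              map_one, map_one]
        · by_cases hyA : y.1 ∈ A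
          · by_cases hxB : x.1 ∈ B
            · exact sq_flip (hABcross y x hyA hxB)
            · rw [hE1 x hxB, hE1 y (hA3 y hyA), ← map_mul q, ← map_mul i1, ← map_pow q, ← map_pow i1,
                cycR_sq huv1 _ _ (fun h => hxy (Subtype.ext (congrArg (fun w : Rest u1 v1 => w.1.1) h))),
                map_one, map_one]
          · have htx : (tz x).1 ∉ B := fun h => hxA ((hτA x.1).mpr h)
            have hty : (tz y).1 ∉ B := fun h => hyA ((hτA y.1).mpr h)
            rw [hE2 x htx, hE2 y hty, ← map_mul (MulAut.conj (q Z)), ← map_mul q, ← map_mul i1,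
              ← map_pow (MulAut.conj (q Z)), ← map_pow q,
              ← map_pow i1, cycR_sq huv1 _ _ (fun h => hxy (Subtype.ext (τ.1.injective
                (congrArg (fun w : Rest u1 v1 => w.1.1) h)))), map_one, map_one, map_one])
      (by
        rw [eq_top_iff]
        rintro z -
        have hZm : q Z ∈ Subgroup.closure (Set.range E) := by
          have h := hrel (Z * w⁻¹) (by simp)
          rw [map_mul q, map_inv q, mul_inv_eq_one] at h
          rw [h]
          have : GE ≤ (Subgroup.closure (Set.range E)).comap q := by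
            rw [Subgroup.closure_le]
            rintro _ ⟨x, rfl⟩
            exact Subgroup.subset_closure ⟨x, rfl⟩
          exact this hwG
        obtain ⟨z, rfl⟩ := QuotientGroup.mk'_surjective N z
        induction z using Monoid.Coprod.induction_on with
        | inl g =>
          have : (⊤ : Subgroup (alternatingGroup {x : β // x ∉ B})) ≤
              (Subgroup.closure (Set.range E)).comap (q.comp i1) := by
            rw [← closure_cycR huv1, Subgroup.closure_le]
            rintro _ ⟨w, rfl⟩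
            exact Subgroup.subset_closure ⟨⟨w.1.1, fun e => w.2.1 (Subtype.ext e),
              fun e => w.2.2 (Subtype.ext e)⟩, hE1 _ w.1.2⟩
          exact this (Subgroup.mem_top g)
        | inr f =>
          have : (⊤ : Subgroup (FreeGroup (Fin 1))) ≤
              (Subgroup.closure (Set.range E)).comap (q.comp Monoid.Coprod.inr) := by
            rw [← FreeGroup.closure_range_of, Subgroup.closure_le]
            rintro _ ⟨i, rfl⟩
            rw [Fin.fin_one_eq_zero i]
            exact hZm
          exact this (Subgroup.mem_top f)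
        | mul p p' hp hp' => rw [map_mul]; exact mul_mem hp hp')
    refine mem_normalClosure_of_card_le Φ hΦs _ ?_ hfin hle c hc
    intro x hx
    rw [Finset.mem_coe] at hx
    simp only [SO, Finset.mem_union, Finset.mem_insert, Finset.mem_singleton] at hx
    rcases hx with ((rfl | rfl) | (rfl | rfl)) | h
    · rw [map_mul _ _ (i1 _)⁻¹, map_inv, hΦo, mul_inv_cancel]
    · rw [map_mul _ _ (i1 _)⁻¹, map_inv, hΦo, mul_inv_cancel]
    · rw [map_mul, hΦZ]; exact Subtype.ext (Equiv.ext hτ2)
    · rw [map_mul, map_inv, hΦZ, hw, mul_inv_cancel]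
    · exact hSXone x h
  · have a1 := Finset.card_union_le (SO ∪ {Z * Z, Z * w⁻¹}) SX
    have a2 := Finset.card_union_le SO {Z * Z, Z * w⁻¹}
    have a3 : SO.card ≤ 2 := Finset.card_le_two
    have a4 : ({Z * Z, Z * w⁻¹} : Finset C).card ≤ 2 := Finset.card_le_two
    omega

/-- From `Alt(m)` to `Alt(n)`, `m < n ≤ 2m - 4`. -/
theorem alt_glue_sym {m n r : ℕ} (hmn : m < n) (hn : n + 4 ≤ 2 * m)
    (hm : HasPres (alternatingGroup (Fin m)) r) : HasPres (alternatingGroup (Fin n)) (r + 8) := by
  classical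
  set k := n - m with hk
  let A : Finset (Fin n) := Finset.univ.filter fun x => 2 ≤ x.val ∧ x.val < 2 + k
  let B : Finset (Fin n) := Finset.univ.filter fun x => m ≤ x.val
  have hmA : ∀ x, x ∈ A ↔ 2 ≤ x.val ∧ x.val < 2 + k := fun x => by simp [A]
  have hmB : ∀ x, x ∈ B ↔ m ≤ x.val := fun x => by simp [B]
  let fn : Fin n → Fin n := fun x =>
    if hA : 2 ≤ x.val ∧ x.val < 2 + k then ⟨x.val - 2 + m, by omega⟩
    else if hB : m ≤ x.val then ⟨x.val - m + 2, by omega⟩ else x
  have hfA : ∀ x : Fin n, 2 ≤ x.val → x.val < 2 + k → (fn x).val = x.val - 2 + m := fun x h h' => by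
    simp [fn, h, h']
  have hfB : ∀ x : Fin n, m ≤ x.val → (fn x).val = x.val - m + 2 := fun x h => by
    simp only [fn]
    rw [dif_neg (by omega), dif_pos h]
  have hfO : ∀ x : Fin n, ¬ (2 ≤ x.val ∧ x.val < 2 + k) → x.val < m → (fn x).val = x.val :=
    fun x h h' => by
      simp only [fn]
      rw [dif_neg h, dif_neg (by omega)]
  have hinv : ∀ x, fn (fn x) = x := by
    intro x
    apply Fin.ext
    by_cases h1 : 2 ≤ x.val ∧ x.val < 2 + k
    · have := hfA x h1.1 h1.2
      rw [hfB _ (by omega), this]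
      omega
    by_cases h2 : m ≤ x.val
    · have := hfB x h2
      rw [hfA _ (by omega) (by omega), this]
      omega
    · have := hfO x h1 (by omega)
      rw [hfO _ (by omega) (by omega), this]
  let p : Perm (Fin n) := ⟨fn, fn, hinv, hinv⟩
  let o : Fin n := ⟨2 + k, by omega⟩
  let o' : Fin n := ⟨3 + k, by omega⟩
  have hoo : o ≠ o' := by simp [o, o']
  have hpo : p o = o := Fin.ext (hfO o (by simp [o]) (by simp [o]; omega))
  have hpo' : p o' = o' := Fin.ext (hfO o' (by simp [o']) (by simp [o']; omega))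
  let t : Perm (Fin n) := if sign p = 1 then p else p * swap o o'
  have ht : t ∈ alternatingGroup (Fin n) := by
    rw [mem_alternatingGroup]
    by_cases h : sign p = 1
    · simp only [t, if_pos h]; exact h
    · simp only [t, if_neg h, map_mul, sign_swap hoo]
      rcases Int.units_eq_one_or (sign p) with h' | h'
      · exact absurd h' h
      · rw [h']; rfl
  have happ : ∀ x, x ≠ o → x ≠ o' → t x = p x := fun x h h' => by
    by_cases hs : sign p = 1
    · simp only [t, if_pos hs]
    · simp only [t, if_neg hs, Perm.mul_apply, swap_apply_of_ne_of_ne h h']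
  have htoO : t o = o ∧ t o' = o' ∨ t o = o' ∧ t o' = o := by
    by_cases hs : sign p = 1
    · simp only [t, if_pos hs]; exact Or.inl ⟨hpo, hpo'⟩
    · simp only [t, if_neg hs, Perm.mul_apply, swap_apply_left, swap_apply_right]
      exact Or.inr ⟨hpo', hpo⟩
  have hne : ∀ x : Fin n, (x.val < 2 + k ∨ m ≤ x.val) → x ≠ o ∧ x ≠ o' := by
    intro x hx
    constructor <;> intro h <;> subst h <;> simp [o, o'] at hx <;> omega
  have h2 : ∀ x, t (t x) = x := by
    intro x
    by_cases hx : x = o
    · subst hx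
      rcases htoO with ⟨a, b⟩ | ⟨a, b⟩ <;> simp [a, b]
    by_cases hx' : x = o'
    · subst hx'
      rcases htoO with ⟨a, b⟩ | ⟨a, b⟩ <;> simp [a, b]
    rw [happ x hx hx', happ]
    · exact hinv x
    · exact fun h => hx (by rw [← hinv x]; exact (congrArg p h).trans hpo)
    · exact fun h => hx' (by rw [← hinv x]; exact (congrArg p h).trans hpo')
  have hAB : ∀ x, x ∈ A ↔ t x ∈ B := by
    intro x
    by_cases hx : x = o ∨ x = o'
    · have : t x = o ∨ t x = o' := by
        rcases hx with rfl | rfl <;> rcases htoO with ⟨a, b⟩ | ⟨a, b⟩ <;> simp [a, b]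
      rcases hx with rfl | rfl <;> rcases this with h | h <;> rw [h, hmA, hmB] <;>
        simp only [o, o'] <;> omega
    · rw [not_or] at hx
      rw [happ x hx.1 hx.2, hmA, hmB]
      show _ ↔ m ≤ (fn x).val
      by_cases h1 : 2 ≤ x.val ∧ x.val < 2 + k
      · rw [hfA x h1.1 h1.2]; omega
      by_cases h3 : m ≤ x.val
      · rw [hfB x h3]; omega
      · rw [hfO x h1 (by omega)]; omega
  have hB : B.card = k := by
    refine Finset.card_eq_of_bijective (fun i hi => ⟨i + m, by omega⟩) ?_ ?_ ?_
    · intro x hx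
      rw [hmB] at hx
      exact ⟨x.val - m, by omega, Fin.ext (by simp only; omega)⟩
    · intro i hi; simp [B]
    · intro i j _ _ h; simpa using congrArg Fin.val h
  have cB : Fintype.card {x : Fin n // x ∉ B} = m := by
    rw [Fintype.card_subtype_compl, Fintype.card_coe, hB, Fintype.card_fin]; omega
  refine alt_glue_sym_aux A B (u := ⟨0, by omega⟩) (v := ⟨1, by omega⟩) (by simp) ?_ (by simp [A])
    ⟨by simp [B]; omega, by simp [B]; omega⟩ ⟨t, ht⟩ ?_ ?_ h2 hAB ?_
    (hm.congr (Fintype.equivFinOfCardEq cB).symm.altCongrHom)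
  · rw [Finset.disjoint_left]
    intro x hxA hxB
    rw [hmA] at hxA; rw [hmB] at hxB
    omega
  · rw [happ _ (hne _ (by simp)).1 (hne _ (by simp)).2]
    exact Fin.ext (hfO _ (by simp) (by simp; omega))
  · have : (1 : ℕ) < 2 + k := by omega
    rw [happ _ (hne _ (Or.inl this)).1 (hne _ (Or.inl this)).2]
    exact Fin.ext (hfO _ (by simp) (by simp; omega))
  · rw [show (2 : ℕ) = 1 + 1 from rfl, Nat.succ_le_iff, Fintype.one_lt_card_iff]
    exact ⟨⟨o, by simp [hmA, o], by simp [hmB, o]; omega, by simp [o, Fin.ext_iff],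
        by simp [o, Fin.ext_iff]; omega⟩,
      ⟨o', by simp [hmA, o'], by simp [hmB, o']; omega, by simp [o', Fin.ext_iff],
        by simp [o', Fin.ext_iff]; omega⟩, fun h => hoo (congrArg Subtype.val h)⟩

end Cfsg.Agent.ShortPres
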