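import Cfsg.Agent.ShortPres.AltStep
import Cfsg.Agent.SL2Pres.Presentations
import Cfsg.Agent.Classical.ExcSmall
import Cfsg.Agent.S2286

/-!
# The alternating group of degree `p + 3`
-/

set_option autoImplicit false

namespace Cfsg.Agent.ShortPres

open Matrix Cfsg.Agent.SL2Pres
open scoped MatrixGroups

variable {p : ℕ} [Fact p.Prime]

theorem sl_two_hasPres (F : Type*) [Field F] [Fintype F] : HasPres SL(2, F) 9 := by
  obtain ⟨rels, hr, h⟩ := (Cfsg.Agent.S2286.main_aux (F := F)).1
  exact hasPres_of_presented rels hr h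

theorem inv_entry {F : Type*} [Field F] (g : SL(2, F)) : (g⁻¹).1 1 0 = -g.1 1 0 := by
  exact (congrFun (congrFun (Matrix.SpecialLinearGroup.coe_inv g) 1) 0).trans (by simp [adjugate_fin_two])

/-- The upper triangular subgroup of `SL(2, p)`. -/
theorem borel_mem {ν : (ZMod p)ˣ} (hν : orderOf ν = Fintype.card (ZMod p) - 1) (g : SL(2, ZMod p)) :
    g ∈ Subgroup.closure ({uM 1, dM ν} : Set SL(2, ZMod p)) ↔ g.1 1 0 = 0 := by
  constructor
  · intro hg
    induction hg using Subgroup.closure_induction with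
    | mem x hx =>
      rcases hx with rfl | rfl
      · rfl
      · rfl
    | one => simp
    | mul x y _ _ hx hy =>
      show (x.1 * y.1) 1 0 = 0
      rw [Matrix.mul_apply, Fin.sum_univ_two, hx, hy, zero_mul, mul_zero, add_zero]
    | inv x _ hx => rw [inv_entry, hx, neg_zero]
  · intro h
    have hdet := g.2
    rw [Matrix.det_fin_two, h, mul_zero, sub_zero] at hdet
    have ha : g.1 0 0 ≠ 0 := left_ne_zero_of_mul (by rw [hdet]; exact one_ne_zero : g.1 0 0 * g.1 1 1 ≠ 0)
    have e : g = uM (g.1 0 1 * g.1 0 0) * dM (Units.mk0 _ ha) := by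
      have hd : g.1 1 1 = (g.1 0 0)⁻¹ := eq_inv_of_mul_eq_one_right hdet
      apply Subtype.ext
      ext i j
      fin_cases i <;> fin_cases j <;>
        simp [Matrix.mul_apply, Fin.sum_univ_two, uM_coe, dM_coe, h, hd, ha, mul_assoc]
    rw [e]
    refine mul_mem ?_ ?_
    · have : uM (g.1 0 1 * g.1 0 0) = uM (1 : ZMod p) ^ (g.1 0 1 * g.1 0 0).val := by
        rw [uM_nsmul, nsmul_one, ZMod.natCast_val, ZMod.cast_id]
      rw [this]
      exact pow_mem (Subgroup.subset_closure (Set.mem_insert _ _)) _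
    · obtain ⟨k, hk⟩ := exists_pow_eq hν ha
      rw [show Units.mk0 _ ha = ν ^ k from Units.ext (by simpa using hk), dM_pow]
      exact pow_mem (Subgroup.subset_closure (Set.mem_insert_of_mem _ (Set.mem_singleton (dM ν)))) _

theorem ud_coe {F : Type*} [Field F] (x : F) (a : Fˣ) :
    (uM x * dM a).1 = !![(a : F), x * (↑a⁻¹ : F); 0, (↑a⁻¹ : F)] := by
  show (uM x).1 * (dM a).1 = _
  rw [uM_coe, dM_coe]
  ext i j
  fin_cases i <;> fin_cases j <;> simp [Matrix.mul_apply, Fin.sum_univ_two]

theorem alt_prime_add_three (hp : 5 ≤ p) : HasPres (alternatingGroup (Fin (p + 3))) 14 := by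
  classical
  have hF : Fintype.card (ZMod p) = p := ZMod.card p
  obtain ⟨ν, hν⟩ := exists_gen_unit (ZMod p)
  set B := Subgroup.closure ({uM 1, dM ν} : Set SL(2, ZMod p)) with hB
  letI : Fintype (SL(2, ZMod p) ⧸ B) := Fintype.ofFinite _
  have hperf : commutator SL(2, ZMod p) = ⊤ :=
    Classical.commutator_sl_eq_top (ι := Fin 2) (F := ZMod p) (Or.inr (Classical.Small.exists_sq_ne_one (F := ZMod p) (by omega)))
  have heven : ∀ t : SL(2, ZMod p),
      Equiv.Perm.sign (MulAction.toPermHom SL(2, ZMod p) (SL(2, ZMod p) ⧸ B) t) = 1 := fun t =>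
    Abelianization.commutator_subset_ker
      (Equiv.Perm.sign.comp (MulAction.toPermHom SL(2, ZMod p) (SL(2, ZMod p) ⧸ B)))
      (hperf ▸ Subgroup.mem_top t)
  let x0 : SL(2, ZMod p) ⧸ B := (1 : SL(2, ZMod p))
  let x1 : SL(2, ZMod p) ⧸ B := (wM : SL(2, ZMod p))
  have hsm : ∀ t g : SL(2, ZMod p), t • ((g : SL(2, ZMod p)) : SL(2, ZMod p) ⧸ B) = ((t * g : SL(2, ZMod p)) : SL(2, ZMod p) ⧸ B) :=
    fun t g => rfl
  have hx : x1 ≠ x0 := by
    intro h
    have := (borel_mem hν _).mp (QuotientGroup.eq.mp h)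
    rw [mul_one, inv_entry] at this
    simp [wM_coe] at this
  have hstab : MulAction.stabilizer SL(2, ZMod p) x0 = Subgroup.closure {uM 1, dM ν} :=
    MulAction.stabilizer_quotient B
  have htrans : ∀ x, ∃ t : SL(2, ZMod p), t • x0 = x := fun x => by
    induction x using QuotientGroup.induction_on with
    | H g => exact ⟨g, by rw [hsm, mul_one]⟩
  have htwo : ∀ x, x ≠ x0 → ∃ t : SL(2, ZMod p), t • x0 = x0 ∧ t • x1 = x := by
    intro x hxne
    induction x using QuotientGroup.induction_on with
    | H g =>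
      have hc : g.1 1 0 ≠ 0 := fun h => hxne (QuotientGroup.eq.mpr (by
        rw [mul_one, hB]
        exact inv_mem ((borel_mem hν g).mpr h)))
      set β : ZMod p := -(g.1 0 0 / g.1 1 0)
      set b' := wM * uM β * g with hb'
      have hb : b' ∈ B := by
        rw [hB, borel_mem hν]
        simp [b', Matrix.mul_apply, Fin.sum_univ_two, wM_coe, uM_coe, β]
        field_simp
        ring
      have hd : dM (-1 : (ZMod p)ˣ) ∈ B := by
        rw [hB, borel_mem hν]; rfl
      refine ⟨(uM β)⁻¹, ?_, ?_⟩
      · rw [hsm, mul_one]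
        refine QuotientGroup.eq.mpr ?_
        rw [inv_inv, mul_one, hB, borel_mem hν]
        rfl
      · rw [hsm]
        refine QuotientGroup.eq.mpr ?_
        have e : ((uM β)⁻¹ * wM)⁻¹ * g = (dM (-1 : (ZMod p)ˣ))⁻¹ * b' := by
          rw [hb', ← wM_sq]
          group
        rw [e]
        exact mul_mem (inv_mem hd) hb
  have hu : Subgroup.normalClosure ({uM 1} : Set SL(2, ZMod p)) = ⊤ := by
    set N := Subgroup.normalClosure ({uM 1} : Set SL(2, ZMod p)) with hN
    have h1 : uM 1 ∈ N := Subgroup.subset_normalClosure rfl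
    have hw : (wM : SL(2, ZMod p)) ∈ N := by
      have e : (wM : SL(2, ZMod p)) = uM 1 * (wM * uM 1 * (wM : SL(2, ZMod p))⁻¹) * uM 1 := by
        apply Subtype.ext
        show _ = (uM 1).1 * ((wM : SL(2, ZMod p)).1 * (uM 1).1 * (wM : SL(2, ZMod p)).1.adjugate) * (uM 1).1
        rw [uM_coe, wM_coe, adjugate_fin_two]
        ext i j
        fin_cases i <;> fin_cases j <;> simp [Matrix.mul_apply, Fin.sum_univ_two]
      rw [e]
      exact mul_mem (mul_mem h1 (Subgroup.normalClosure_normal.conj_mem _ h1 _)) h1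
    have hall : ∀ z : SL(2, ZMod p) ⧸ N, z ∈ Subgroup.zpowers (QuotientGroup.mk' N (dM ν)) := by
      intro z
      obtain ⟨g, rfl⟩ := QuotientGroup.mk'_surjective N z
      have : (⊤ : Subgroup SL(2, ZMod p)) ≤
          (Subgroup.zpowers (QuotientGroup.mk' N (dM ν))).comap (QuotientGroup.mk' N) := by
        rw [← gens_closure hν, Subgroup.closure_le]
        rintro y (rfl | rfl | rfl)
        · simp only [SetLike.mem_coe, Subgroup.mem_comap]
          rw [show QuotientGroup.mk' N (uM 1) = 1 from (QuotientGroup.eq_one_iff _).mpr h1]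
          exact one_mem _
        · exact Subgroup.mem_zpowers _
        · simp only [SetLike.mem_coe, Subgroup.mem_comap]
          rw [show QuotientGroup.mk' N wM = 1 from (QuotientGroup.eq_one_iff _).mpr hw]
          exact one_mem _
      exact this (Subgroup.mem_top g)
    rw [eq_top_iff, ← hperf, _root_.commutator_def, Subgroup.commutator_le]
    intro a _ b _
    rw [← QuotientGroup.eq_one_iff, ← QuotientGroup.mk'_apply, map_commutatorElement,
      commutatorElement_eq_one_iff_commute]
    obtain ⟨i, hi⟩ := hall (QuotientGroup.mk' N a)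
    obtain ⟨j, hj⟩ := hall (QuotientGroup.mk' N b)
    rw [← hi, ← hj]
    exact Commute.zpow_zpow_self _ _ _
  have hcard : Fintype.card (SL(2, ZMod p) ⧸ B) = p + 1 := by
    have hBc : Nat.card B = p * (p - 1) := by
      let e : B → ZMod p × (ZMod p)ˣ := fun g =>
        (g.1.1 0 1, Units.mk0 (g.1.1 0 0) (by
          have h := (borel_mem hν g.1).mp g.2
          have hdet := g.1.2
          rw [Matrix.det_fin_two, h, mul_zero, sub_zero] at hdet
          exact left_ne_zero_of_mul (by rw [hdet]; exact one_ne_zero : g.1.1 0 0 * g.1.1 1 1 ≠ 0)))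
      have he : Function.Bijective e := by
        refine ⟨fun g g' h => ?_, fun z => ?_⟩
        · simp only [e, Prod.mk.injEq, Units.ext_iff, Units.val_mk0] at h
          have h0 := (borel_mem hν g.1).mp g.2
          have h0' := (borel_mem hν g'.1).mp g'.2
          have d1 := g.1.2
          have d2 := g'.1.2
          rw [Matrix.det_fin_two, h0, mul_zero, sub_zero] at d1
          rw [Matrix.det_fin_two, h0', mul_zero, sub_zero, ← h.2] at d2
          have h11 : g.1.1 1 1 = g'.1.1 1 1 :=
            (eq_inv_of_mul_eq_one_right d1).trans (eq_inv_of_mul_eq_one_right d2).symm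
          apply Subtype.ext
          apply Subtype.ext
          ext i j
          fin_cases i <;> fin_cases j
          · exact h.2
          · exact h.1
          · exact h0.trans h0'.symm
          · exact h11
        · refine ⟨⟨uM (z.1 * (z.2 : ZMod p)) * dM z.2, ?_⟩, ?_⟩
          · rw [hB, borel_mem hν, ud_coe]
            rfl
          · refine Prod.ext ?_ (Units.ext ?_)
            · show (uM (z.1 * (z.2 : ZMod p)) * dM z.2).1 0 1 = z.1
              rw [ud_coe]
              show z.1 * (z.2 : ZMod p) * (↑z.2⁻¹ : ZMod p) = z.1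
              rw [mul_assoc, Units.mul_inv, mul_one]
            · show (uM (z.1 * (z.2 : ZMod p)) * dM z.2).1 0 0 = z.2
              rw [ud_coe]
              rfl
      rw [Nat.card_congr (Equiv.ofBijective e he), Nat.card_prod, Nat.card_zmod,
        Nat.card_eq_fintype_card, ZMod.card_units]
    have hT : Nat.card SL(2, ZMod p) = p * (p - 1) * (p + 1) := by
      rw [card_target, hF]
    have := Subgroup.card_mul_index B
    rw [hT, hBc, Subgroup.index_eq_card, Nat.card_eq_fintype_card (α := SL(2, ZMod p) ⧸ B)] at this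
    exact Nat.eq_of_mul_eq_mul_left (Nat.mul_pos (by omega) (by omega)) this
  have := alt_step (sl_two_hasPres (ZMod p)) heven x0 x1 hx (uM 1) (dM ν) hstab htrans htwo (uM 1) hu
  exact this.congr (Fintype.equivFinOfCardEq (by simp [hcard]) :
    (SL(2, ZMod p) ⧸ B) ⊕ Fin 2 ≃ Fin (p + 3)).altCongrHom

end Cfsg.Agent.ShortPres
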