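import Cfsg.Agent.ShortPres.AltGlue
import Cfsg.Agent.ShortPres.AltPrime
import Cfsg.Agent.ShortPres.AltGlueSym

/-!
# All alternating groups have a bounded number of relations
-/

set_option autoImplicit false

namespace Cfsg.Agent.ShortPres

theorem alt_hasPres_fin (n : ℕ) (hn : 2 ≤ n) : HasPres (alternatingGroup (Fin n)) 39 := by
  rcases Nat.lt_or_ge n 9 with h | h
  · obtain ⟨m, rfl⟩ : ∃ m, n = m + 2 := ⟨n - 2, by omega⟩
    exact (alt_small m (by omega)).mono (by omega)
  · obtain ⟨p, hp, h1, h2⟩ := Nat.exists_prime_lt_and_le_two_mul ((n - 3) / 2) (by omega)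
    have : Fact p.Prime := ⟨hp⟩
    have h5 : 5 ≤ p := by
      by_contra hc
      have : p = 4 := by omega
      subst this
      exact absurd hp (by norm_num)
    rcases Nat.eq_or_lt_of_le (show p + 3 ≤ n by omega) with he | hlt
    · exact he ▸ (alt_prime_add_three h5).mono (by omega)
    · exact (alt_glue hlt (by omega) (alt_prime_add_three h5)).mono (by omega)

theorem alt_hasPres (β : Type*) [Fintype β] [DecidableEq β] (h : 2 ≤ Fintype.card β) :
    HasPres (alternatingGroup β) 39 :=
  (alt_hasPres_fin _ h).congr (Fintype.equivFin β).symm.altCongrHom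

/-- The sharper bound from gluing along an involution. -/
theorem alt_hasPres_sharp (n : ℕ) (hn : 2 ≤ n) : HasPres (alternatingGroup (Fin n)) 22 := by
  rcases Nat.lt_or_ge n 9 with h | h
  · obtain ⟨m, rfl⟩ : ∃ m, n = m + 2 := ⟨n - 2, by omega⟩
    exact (alt_small m (by omega)).mono (by omega)
  · obtain ⟨p, hp, h1, h2⟩ := Nat.exists_prime_lt_and_le_two_mul ((n - 3) / 2) (by omega)
    have : Fact p.Prime := ⟨hp⟩
    have h5 : 5 ≤ p := by
      by_contra hc
      have : p = 4 := by omega
      subst this
      exact absurd hp (by norm_num)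
    rcases Nat.eq_or_lt_of_le (show p + 3 ≤ n by omega) with he | hlt
    · exact he ▸ (alt_prime_add_three h5).mono (by omega)
    · exact (alt_glue_sym hlt (by omega) (alt_prime_add_three h5)).mono (by omega)

end Cfsg.Agent.ShortPres
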