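import Cfsg.Agent.ShortPres.SLPres
import Cfsg.Agent.ShortPres.AltMain
import Cfsg.Agent.SLMult.Main
import Cfsg.Agent.S2278
import Cfsg.Agent.S2279

/-!
# `PSL(n, F)` has a presentation with two generators and at most 80 relations
-/

set_option autoImplicit false

namespace Cfsg.Agent.ShortPres

open Matrix Cfsg.Agent.SL2Pres
open scoped MatrixGroups

universe u

variable {F : Type u} [Field F] [Fintype F]

theorem sl_big_hasPres {n : ℕ} (hn : 3 ≤ n) :
    HasPres (Matrix.SpecialLinearGroup (Fin n) F) 49 := by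
  classical
  obtain ⟨ν, hν⟩ := exists_gen_unit F
  let t1 : Fin n × Fin n × Fin n := (⟨0, by omega⟩, ⟨1, by omega⟩, ⟨2, by omega⟩)
  let t2 : Fin n × Fin n × Fin n := (⟨1, by omega⟩, ⟨0, by omega⟩, ⟨2, by omega⟩)
  have hinj : ∀ t : Fin n × Fin n × Fin n, t.1 ≠ t.2.1 → t.1 ≠ t.2.2 → t.2.1 ≠ t.2.2 →
      Function.Injective ![t.1, t.2.1, t.2.2] := by
    rintro ⟨i, j, k⟩ a b c x y
    fin_cases x <;> fin_cases y <;> simp [a, Ne.symm a, b, Ne.symm b, c, Ne.symm c]
  have hmove : ∀ i j k : Fin n, i ≠ j → i ≠ k → j ≠ k →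
      ∃ g : alternatingGroup (Fin n), ∃ t ∈ ({t1, t2} : Finset _),
        g.1 t.1 = i ∧ g.1 t.2.1 = j ∧ g.1 t.2.2 = k := by
    intro i j k a b c
    obtain ⟨g, h | h⟩ := exists_alt_map (m := 1) ![t1.1, t1.2.1, t1.2.2] ![i, j, k]
      (hinj t1 (by simp [t1]) (by simp [t1]) (by simp [t1])) (hinj (i, j, k) a b c)
    · exact ⟨g, t1, by simp, h 0, h 1, h 2⟩
    · exact ⟨g, t2, by simp, h 0, h 1, h 2⟩
  have hd2 : ∀ t ∈ ({t1, t2} : Finset _), t.1 ≠ t.2.1 ∧ t.1 ≠ t.2.2 ∧ t.2.1 ≠ t.2.2 := by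
    intro t ht
    simp only [Finset.mem_insert, Finset.mem_singleton] at ht
    rcases ht with rfl | rfl <;> simp [t1, t2]
  rcases Nat.lt_or_ge n 5 with hlt | h5
  · obtain ⟨m, rfl⟩ : ∃ m, n = m + 2 := ⟨n - 2, by omega⟩
    have hsmall := alt_small_bound m (by omega)
    rw [if_pos (show m ≤ 2 by omega)] at hsmall
    have hR : ({t1, t2} : Finset _).card ≤ 2 := Finset.card_le_two
    by_cases h3 : m + 2 = 3
    · refine (sl_hasPres hn hsmall hν {t1, t2} hd2 hmove {0, 1, 2} (by simp)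
        (fun _ γ hγ => by interval_cases γ <;> simp)).mono ?_
      have hΓ : ({0, 1, 2} : Finset ℕ).card = 3 := by decide
      rw [hΓ]
      omega
    · refine (sl_hasPres hn hsmall hν {t1, t2} hd2 hmove {0} (by simp)
        (fun h => absurd h h3)).mono ?_
      rw [Finset.card_singleton]
      omega
  · refine (sl_hasPres hn (alt_hasPres_sharp n (by omega)) hν {t1} (fun t ht => hd2 t (by
      rw [Finset.mem_singleton] at ht; simp [ht])) (fun i j k a b c => ?_) {0} (by simp)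
      (fun h => absurd h (by omega))).mono (by simp)
    obtain ⟨g, t, ht, e1, e2, e3⟩ := hmove i j k a b c
    simp only [Finset.mem_insert, Finset.mem_singleton] at ht
    rcases ht with rfl | rfl
    · exact ⟨g, t1, Finset.mem_singleton_self _, e1, e2, e3⟩
    · let s : Equiv.Perm (Fin n) := Equiv.swap ⟨0, by omega⟩ ⟨1, by omega⟩ *
        Equiv.swap ⟨3, by omega⟩ ⟨4, by omega⟩
      have hs : s ∈ alternatingGroup (Fin n) := by
        rw [Equiv.Perm.mem_alternatingGroup, map_mul, Equiv.Perm.sign_swap (by simp),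
          Equiv.Perm.sign_swap (by simp)]
        rfl
      refine ⟨g * ⟨s, hs⟩, t1, Finset.mem_singleton_self _, ?_, ?_, ?_⟩
      · rw [← e1]; simp [s, t1, t2, Equiv.swap_apply_of_ne_of_ne]
      · rw [← e2]; simp [s, t1, t2, Equiv.swap_apply_of_ne_of_ne]
      · rw [← e3]; simp [s, t1, t2, Equiv.swap_apply_of_ne_of_ne]

theorem psl_big_hasPres {n : ℕ} (hn : 3 ≤ n) :
    HasPres (Matrix.ProjectiveSpecialLinearGroup (Fin n) F) 50 := by
  classical
  have : Nonempty (Fin n) := ⟨⟨0, by omega⟩⟩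
  have hcyc : IsCyclic (Subgroup.center (Matrix.SpecialLinearGroup (Fin n) F)) :=
    (Matrix.SpecialLinearGroup.center_equiv_rootsOfUnity' (Classical.arbitrary (Fin n))).isCyclic.mpr
      inferInstance
  obtain ⟨z, hz⟩ := hcyc.exists_generator
  refine ((sl_big_hasPres hn).of_universal (QuotientGroup.mk' _) (QuotientGroup.mk'_surjective _)
    {(z : Matrix.SpecialLinearGroup (Fin n) F)} (fun x hx => ?_) fun x hx => ?_).mono (by simp)
  · rw [Finset.mem_singleton] at hx
    exact (QuotientGroup.eq_one_iff _).mpr (hx ▸ z.2)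
  · obtain ⟨j, hj⟩ := hz ⟨x, (QuotientGroup.eq_one_iff x).mp hx⟩
    have : x = (z : Matrix.SpecialLinearGroup (Fin n) F) ^ j := (congrArg Subtype.val hj).symm
    rw [this]
    exact zpow_mem (Subgroup.subset_normalClosure (by simp)) j

theorem psl_short (n : ℕ) (hn : 2 ≤ n) (h2 : n = 2 → 4 ≤ Fintype.card F) :
    ∃ rels : Finset (FreeGroup (Fin 2)), rels.card ≤ 80 ∧ Nonempty (PresentedGroup
      (↑rels : Set (FreeGroup (Fin 2))) ≃* Matrix.ProjectiveSpecialLinearGroup (Fin n) F) := by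
  classical
  let π : Matrix.SpecialLinearGroup (Fin n) F →* Matrix.ProjectiveSpecialLinearGroup (Fin n) F :=
    QuotientGroup.mk' _
  have hgen : ∀ a b : Matrix.SpecialLinearGroup (Fin n) F,
      Subgroup.closure ({a, b} : Set _) = ⊤ → Subgroup.closure ({π a, π b} : Set _) = ⊤ := by
    intro a b h
    rw [← Set.image_pair, ← MonoidHom.map_closure, h, ← MonoidHom.range_eq_map]
    exact MonoidHom.range_eq_top.mpr (QuotientGroup.mk'_surjective _)
  suffices h : ∃ r ≤ 78, HasPres (Matrix.ProjectiveSpecialLinearGroup (Fin n) F) r ∧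
      ∃ a b : Matrix.SpecialLinearGroup (Fin n) F, Subgroup.closure ({a, b} : Set _) = ⊤ by
    obtain ⟨r, hr, hP, a, b, hab⟩ := h
    obtain ⟨rels, hc, he⟩ := hP.two_gen (hgen a b hab)
    exact ⟨rels, by omega, he⟩
  rcases (show n = 2 ∨ n = 3 ∨ 4 ≤ n by omega) with rfl | rfl | h4
  · obtain ⟨rels, hc, he⟩ := (Cfsg.Agent.S2286.main_aux (F := F)).2.1
    obtain ⟨ν, hν⟩ := exists_gen_unit F
    exact ⟨9, by norm_num, hasPres_of_presented rels hc he, _, _, sl_two_gen (h2 rfl) hν⟩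
  · obtain ⟨a, g, h⟩ := Cfsg.Agent.RegGen.three_generate (F := F)
    exact ⟨50, by norm_num, psl_big_hasPres le_rfl, _, _, h⟩
  · obtain ⟨d, rfl⟩ : ∃ d, n = d + 2 := ⟨n - 2, by omega⟩
    obtain ⟨u, -, h⟩ := (Cfsg.Agent.S2279.two_generate (F := F) d (by omega)).1
    exact ⟨50, by norm_num, psl_big_hasPres (by omega), _, _, h⟩

end Cfsg.Agent.ShortPres
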