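import Cfsg.Agent.ShortPres.Basic

/-!
# Presentations with a given number of generators
-/

set_option autoImplicit false

namespace Cfsg.Agent.ShortPres

universe u v

/-- A presentation on `k` generators with at most `r` relations. -/
def PresK (G : Type u) [Group G] (k r : ℕ) : Prop :=
  ∃ f : FreeGroup (Fin k) →* G, Function.Surjective f ∧
    ∃ s : Finset (FreeGroup (Fin k)), s.card ≤ r ∧ f.ker = Subgroup.normalClosure (s : Set _)

theorem PresK.mono {G : Type u} [Group G] {k r r' : ℕ} (h : PresK G k r) (hr : r ≤ r') :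
    PresK G k r' := by
  obtain ⟨f, hf, s, hs, hker⟩ := h
  exact ⟨f, hf, s, hs.trans hr, hker⟩

theorem PresK.hasPres {G : Type u} [Group G] {k r : ℕ} (h : PresK G k r) : HasPres G r :=
  ⟨k, h⟩

theorem PresK.congr {G : Type u} [Group G] {G' : Type v} [Group G'] {k r : ℕ} (h : PresK G k r)
    (e : G ≃* G') : PresK G' k r := by
  obtain ⟨f, hf, s, hs, hker⟩ := h
  refine ⟨e.toMonoidHom.comp f, e.surjective.comp hf, s, hs, ?_⟩
  rw [← hker]
  ext x
  simp [MonoidHom.mem_ker]

theorem presK_free (k : ℕ) : PresK (FreeGroup (Fin k)) k 0 := by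
  refine ⟨MonoidHom.id _, fun x => ⟨x, rfl⟩, ∅, le_rfl, ?_⟩
  rw [Finset.coe_empty, Subgroup.normalClosure_empty]
  ext x
  simp [MonoidHom.mem_ker, Subgroup.mem_bot]

/-- From a presented group. -/
theorem presK_of_presented {T : Type u} [Group T] {k r : ℕ} (rels : Finset (FreeGroup (Fin k)))
    (hr : rels.card ≤ r)
    (h : Nonempty (PresentedGroup (↑rels : Set (FreeGroup (Fin k))) ≃* T)) : PresK T k r := by
  obtain ⟨e⟩ := h
  refine ⟨e.toMonoidHom.comp (PresentedGroup.mk _),
    e.surjective.comp (PresentedGroup.mk_surjective _), rels, hr, ?_⟩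
  ext x
  simp only [MonoidHom.mem_ker, MonoidHom.coe_comp, MulEquiv.coe_toMonoidHom, Function.comp_apply,
    EmbeddingLike.map_eq_one_iff]
  exact PresentedGroup.mk_eq_one_iff

/-- To a presented group. -/
theorem PresK.presented {T : Type u} [Group T] {k r : ℕ} (h : PresK T k r) :
    ∃ rels : Finset (FreeGroup (Fin k)), rels.card ≤ r ∧
      Nonempty (PresentedGroup (↑rels : Set (FreeGroup (Fin k))) ≃* T) := by
  obtain ⟨f, hf, s, hs, hker⟩ := h
  exact ⟨s, hs, ⟨(QuotientGroup.quotientMulEquivOfEq hker.symm).trans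
    (QuotientGroup.quotientKerEquivOfSurjective f hf)⟩⟩

/-- Adding relations. -/
theorem PresK.of_universal {C : Type u} [Group C] {T : Type v} [Group T] {r : ℕ}
    {k : ℕ} (hC : PresK C k r) (Φ : C →* T) (hΦ : Function.Surjective Φ) (S : Finset C)
    (hS : ∀ x ∈ S, Φ x = 1) (h : ∀ x, Φ x = 1 → x ∈ Subgroup.normalClosure (S : Set C)) :
    PresK T k (r + S.card) := by
  classical
  obtain ⟨f, hf, s, hs, hker⟩ := hC
  let S' : Finset (FreeGroup (Fin k)) := S.image (Function.surjInv hf)
  refine ⟨Φ.comp f, hΦ.comp hf, s ∪ S',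
    (Finset.card_union_le _ _).trans (Nat.add_le_add hs Finset.card_image_le), ?_⟩
  have hsf : ∀ x ∈ s, f x = 1 := fun x hx => by
    rw [← MonoidHom.mem_ker, hker]
    exact Subgroup.subset_normalClosure hx
  refine ker_eq_normalClosure _ _ (fun x hx => ?_) fun x hx => ?_
  · rw [Finset.coe_union] at hx
    rcases hx with hx | hx
    · simp [hsf x hx]
    · obtain ⟨c, hc, rfl⟩ := Finset.mem_image.mp hx
      simp only [MonoidHom.coe_comp, Function.comp_apply, Function.surjInv_eq hf]
      exact hS c hc
  · set N := Subgroup.normalClosure (↑(s ∪ S') : Set (FreeGroup (Fin k))) with hN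
    have hfN : f.ker ≤ N := by
      rw [hker]
      exact Subgroup.normalClosure_mono (by rw [Finset.coe_union]; exact Set.subset_union_left)
    have : (N.map f).Normal := Subgroup.Normal.map inferInstance _ hf
    have hle : Subgroup.normalClosure (S : Set C) ≤ N.map f :=
      Subgroup.normalClosure_le_normal fun c hc =>
        ⟨Function.surjInv hf c, Subgroup.subset_normalClosure (by
          rw [Finset.coe_union]; exact Or.inr (Finset.mem_image_of_mem _ hc)),
          Function.surjInv_eq hf c⟩
    obtain ⟨y, hy, e⟩ := hle (h (f x) hx)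
    have : x * y⁻¹ ∈ N := hfN (by rw [MonoidHom.mem_ker, map_mul, map_inv, e, mul_inv_cancel])
    simpa using N.mul_mem this hy

/-- Free products. -/
theorem PresK.coprod {G : Type u} [Group G] {H : Type v} [Group H] {r r' : ℕ}
    {k l : ℕ} (hG : PresK G k r) (hH : PresK H l r') :
    PresK (Monoid.Coprod G H) (k + l) (r + r') := by
  classical
  obtain ⟨f, hf, s, hs, hker⟩ := hG
  obtain ⟨g, hg, t, ht, hker'⟩ := hH
  let i1 : FreeGroup (Fin k) →* FreeGroup (Fin (k + l)) := FreeGroup.map (Fin.castAdd l)
  let i2 : FreeGroup (Fin l) →* FreeGroup (Fin (k + l)) := FreeGroup.map (Fin.natAdd k)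
  let F : FreeGroup (Fin (k + l)) →* Monoid.Coprod G H :=
    FreeGroup.lift (Fin.addCases (fun i => Monoid.Coprod.inl (f (FreeGroup.of i)))
      (fun i => Monoid.Coprod.inr (g (FreeGroup.of i))))
  have h1 : F.comp i1 = Monoid.Coprod.inl.comp f := by
    apply FreeGroup.ext_hom; intro i; simp [F, i1]
  have h2 : F.comp i2 = Monoid.Coprod.inr.comp g := by
    apply FreeGroup.ext_hom; intro i; simp [F, i2]
  have hFs : Function.Surjective F := by
    intro x
    induction x using Monoid.Coprod.induction_on with
    | inl a =>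
      obtain ⟨z, rfl⟩ := hf a
      exact ⟨i1 z, DFunLike.congr_fun h1 z⟩
    | inr b =>
      obtain ⟨z, rfl⟩ := hg b
      exact ⟨i2 z, DFunLike.congr_fun h2 z⟩
    | mul a b ha hb =>
      obtain ⟨za, rfl⟩ := ha
      obtain ⟨zb, rfl⟩ := hb
      exact ⟨za * zb, map_mul _ _ _⟩
  refine ⟨F, hFs, s.image i1 ∪ t.image i2,
    (Finset.card_union_le _ _).trans
      (Nat.add_le_add (Finset.card_image_le.trans hs) (Finset.card_image_le.trans ht)), ?_⟩
  refine ker_eq_normalClosure _ _ (fun x hx => ?_) fun x hx => ?_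
  · rw [Finset.coe_union] at hx
    rcases hx with hx | hx
    · obtain ⟨c, hc, rfl⟩ := Finset.mem_image.mp hx
      rw [show F (i1 c) = _ from DFunLike.congr_fun h1 c]
      have : f c = 1 := by rw [← MonoidHom.mem_ker, hker]; exact Subgroup.subset_normalClosure hc
      simp [this]
    · obtain ⟨c, hc, rfl⟩ := Finset.mem_image.mp hx
      rw [show F (i2 c) = _ from DFunLike.congr_fun h2 c]
      have : g c = 1 := by rw [← MonoidHom.mem_ker, hker']; exact Subgroup.subset_normalClosure hc
      simp [this]
  · set N := Subgroup.normalClosure (↑(s.image i1 ∪ t.image i2) : Set (FreeGroup (Fin (k + l))))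
      with hN
    have hk1 : f.ker ≤ ((QuotientGroup.mk' N).comp i1).ker := by
      rw [hker]
      refine Subgroup.normalClosure_le_normal fun c hc => ?_
      exact (QuotientGroup.eq_one_iff _).mpr (Subgroup.subset_normalClosure (by
        rw [Finset.coe_union]; exact Or.inl (Finset.mem_image_of_mem _ hc)))
    have hk2 : g.ker ≤ ((QuotientGroup.mk' N).comp i2).ker := by
      rw [hker']
      refine Subgroup.normalClosure_le_normal fun c hc => ?_
      exact (QuotientGroup.eq_one_iff _).mpr (Subgroup.subset_normalClosure (by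
        rw [Finset.coe_union]; exact Or.inr (Finset.mem_image_of_mem _ hc)))
    let ψ1 := f.liftOfSurjective hf ⟨_, hk1⟩
    let ψ2 := g.liftOfSurjective hg ⟨_, hk2⟩
    have hψ : (Monoid.Coprod.lift ψ1 ψ2).comp F = QuotientGroup.mk' N := by
      apply FreeGroup.ext_hom
      intro i
      refine Fin.addCases (fun i => ?_) (fun i => ?_) i
      · simp only [MonoidHom.comp_apply, F, FreeGroup.lift_apply_of, Fin.addCases_left,
          Monoid.Coprod.lift_apply_inl, ψ1, MonoidHom.liftOfRightInverse_comp_apply]
        simp [i1]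
      · simp only [MonoidHom.comp_apply, F, FreeGroup.lift_apply_of, Fin.addCases_right,
          Monoid.Coprod.lift_apply_inr, ψ2, MonoidHom.liftOfRightInverse_comp_apply]
        simp [i2]
    have := DFunLike.congr_fun hψ x
    rw [MonoidHom.comp_apply, hx, map_one] at this
    exact (QuotientGroup.eq_one_iff x).mp this.symm

/-- Redundant generators. -/
theorem PresK.pad {G : Type u} [Group G] {k r : ℕ} (h : PresK G k r) (d : ℕ) :
    PresK G (k + d) (r + d) := by
  classical
  let Φ : Monoid.Coprod G (FreeGroup (Fin d)) →* G := Monoid.Coprod.lift (MonoidHom.id G) 1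
  let S : Finset (Monoid.Coprod G (FreeGroup (Fin d))) :=
    Finset.univ.image fun i => Monoid.Coprod.inr (FreeGroup.of i)
  have hS : S.card ≤ d := Finset.card_image_le.trans (by simp)
  refine ((h.coprod (presK_free d)).of_universal Φ
    (fun g => ⟨Monoid.Coprod.inl g, by simp [Φ]⟩) S (fun x hx => ?_) (fun x hx => ?_)).mono (by omega)
  · obtain ⟨i, -, rfl⟩ := Finset.mem_image.mp hx
    simp [Φ]
  · set N := Subgroup.normalClosure (S : Set (Monoid.Coprod G (FreeGroup (Fin d))))
    have e : ((QuotientGroup.mk' N).comp Monoid.Coprod.inl).comp Φ = QuotientGroup.mk' N := by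
      apply Monoid.Coprod.hom_ext
      · ext g
        simp [Φ]
      · apply FreeGroup.ext_hom
        intro i
        have : QuotientGroup.mk' N (Monoid.Coprod.inr (FreeGroup.of i)) = 1 :=
          (QuotientGroup.eq_one_iff _).mpr
            (Subgroup.subset_normalClosure (Finset.mem_image_of_mem _ (Finset.mem_univ i)))
        simp only [MonoidHom.comp_apply] at this ⊢
        rw [this]
        simp [Φ]
    have := DFunLike.congr_fun e x
    rw [MonoidHom.comp_apply, hx, map_one] at this
    exact (QuotientGroup.eq_one_iff x).mp this.symm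

/-- Enlarging both bounds. -/
theorem PresK.enlarge {G : Type u} [Group G] {k r k' r' : ℕ} (h : PresK G k r) (hk : k ≤ k')
    (hr : r + (k' - k) ≤ r') : PresK G k' r' := by
  have e := h.pad (k' - k)
  rw [Nat.add_sub_cancel' hk] at e
  exact e.mono hr

end Cfsg.Agent.ShortPres
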