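import Cfsg.Agent.ShortPres.AltBasic

/-!
# Gluing two alternating groups
-/

set_option autoImplicit false

namespace Cfsg.Agent.ShortPres

open Equiv Equiv.Perm Cfsg.Agent.AltMult

section AltMap

variable {α β γ : Type*} [Fintype α] [DecidableEq α] [Fintype β] [DecidableEq β] [Fintype γ]
  [DecidableEq γ]

/-- The permutation group of a subset, extended by the identity. -/
noncomputable def permMap (f : α ↪ β) : Perm α →* Perm β :=
  viaEmbeddingHom f

theorem permMap_apply (f : α ↪ β) (g : Perm α) (a : α) : permMap f g (f a) = f (g a) :=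
  viaEmbedding_apply g f a

theorem permMap_of_notMem (f : α ↪ β) (g : Perm α) {x : β} (hx : x ∉ Set.range f) :
    permMap f g x = x :=
  viaEmbedding_apply_of_notMem g f x hx

theorem sign_permMap (f : α ↪ β) (g : Perm α) : sign (permMap f g) = sign g := by
  classical
  show sign (viaEmbedding g f) = sign g
  rw [viaEmbedding, sign_extendDomain]

/-- The alternating group of a subset inside the big one. -/
noncomputable def altMap (f : α ↪ β) : alternatingGroup α →* alternatingGroup β :=
  ((permMap f).comp (alternatingGroup α).subtype).codRestrict (alternatingGroup β) fun g => by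
    rw [mem_alternatingGroup, MonoidHom.comp_apply, sign_permMap]
    exact mem_alternatingGroup.mp g.2

theorem coe_altMap (f : α ↪ β) (g : alternatingGroup α) :
    (altMap f g : Perm β) = permMap f (g : Perm α) := rfl

theorem permMap_swap (f : α ↪ β) (a b : α) : permMap f (swap a b) = swap (f a) (f b) := by
  ext x
  by_cases hx : x ∈ Set.range f
  · obtain ⟨c, rfl⟩ := hx
    rw [permMap_apply, f.injective.swap_apply]
  · rw [permMap_of_notMem f _ hx, swap_apply_of_ne_of_ne (fun h => hx ⟨a, h.symm⟩)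
      (fun h => hx ⟨b, h.symm⟩)]

theorem altMap_cycR (f : α ↪ β) {u v : α} (huv : u ≠ v) (x : Rest u v) :
    altMap f (cycR huv x) =
      cycR (f.injective.ne huv) ⟨f x.1, f.injective.ne x.2.1, f.injective.ne x.2.2⟩ :=
  Subtype.ext (by
    rw [coe_altMap]
    show permMap f (cyc u v x.1) = cyc (f u) (f v) (f x.1)
    rw [cyc, map_mul, permMap_swap, permMap_swap, cyc])

theorem altMap_trans (f : α ↪ β) (g : β ↪ γ) (s : alternatingGroup α) :
    altMap g (altMap f s) = altMap (f.trans g) s := by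
  apply Subtype.ext
  simp only [coe_altMap]
  ext x
  by_cases hx : x ∈ Set.range g
  · obtain ⟨b, rfl⟩ := hx
    rw [permMap_apply]
    by_cases hb : b ∈ Set.range f
    · obtain ⟨a, rfl⟩ := hb
      rw [permMap_apply, show g (f a) = (f.trans g) a from rfl, permMap_apply]
      rfl
    · rw [permMap_of_notMem f _ hb, permMap_of_notMem (f.trans g)]
      rintro ⟨a, ha⟩
      exact hb ⟨a, g.injective ha⟩
  · rw [permMap_of_notMem g _ hx, permMap_of_notMem (f.trans g)]
    rintro ⟨a, rfl⟩
    exact hx ⟨f a, rfl⟩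

theorem altMap_commute (f : α ↪ γ) (g : β ↪ γ) (h : ∀ a b, f a ≠ g b) (s : alternatingGroup α)
    (t : alternatingGroup β) : Commute (altMap f s) (altMap g t) := by
  apply Subtype.ext
  ext x
  simp only [Subgroup.coe_mul, coe_altMap, Perm.mul_apply]
  have hfg : ∀ a, f a ∉ Set.range g := fun a ⟨b, hb⟩ => h a b hb.symm
  have hgf : ∀ b, g b ∉ Set.range f := fun b ⟨a, ha⟩ => h a b ha
  by_cases hx : x ∈ Set.range f
  · obtain ⟨a, rfl⟩ := hx
    rw [permMap_of_notMem g _ (hfg a), permMap_apply, permMap_of_notMem g _ (hfg _)]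
  by_cases hy : x ∈ Set.range g
  · obtain ⟨b, rfl⟩ := hy
    rw [permMap_apply, permMap_of_notMem f _ (hgf _), permMap_of_notMem f _ (hgf b), permMap_apply]
  rw [permMap_of_notMem g _ hy, permMap_of_notMem f _ hx, permMap_of_notMem g _ hy]

theorem conj_cycR {u v : β} (huv : u ≠ v) (σ : alternatingGroup β) (hu : (σ : Perm β) u = u)
    (hv : (σ : Perm β) v = v) (x y : Rest u v) (hxy : (σ : Perm β) x.1 = y.1) :
    σ * cycR huv x * σ⁻¹ = cycR huv y :=
  Subtype.ext (by
    show (σ : Perm β) * cyc u v x.1 * (σ : Perm β)⁻¹ = cyc u v y.1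
    rw [conj_cyc, hu, hv, hxy])

theorem exists_even_move [Fintype α] (h : 3 ≤ Fintype.card α) (a b : α) :
    ∃ g : alternatingGroup α, (g : Perm α) a = b := by
  by_cases hab : a = b
  · exact ⟨1, by simp [hab]⟩
  obtain ⟨c, hc⟩ : ∃ c, c ∉ ({a, b} : Finset α) := by
    by_contra hcon
    push_neg at hcon
    have := Finset.card_le_card (fun x _ => hcon x : (Finset.univ : Finset α) ⊆ {a, b})
    rw [Finset.card_univ] at this
    have := this.trans Finset.card_le_two
    omega
  simp only [Finset.mem_insert, Finset.mem_singleton, not_or] at hc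
  exact ⟨cycA a b c hab (Ne.symm hc.1), cyc_apply_left hab (Ne.symm hc.2)⟩

end AltMap

theorem sq_conj {K : Type*} [Group K] {z a b : K} (h : (a * b) ^ 2 = 1) :
    ((z * a * z⁻¹) * (z * b * z⁻¹)) ^ 2 = 1 := by
  rw [conj_mul, conj_pow, h, mul_one, mul_inv_cancel]

universe u

variable {β : Type u} [Fintype β] [DecidableEq β]

/-- Two alternating groups on overlapping sets glue to the alternating group of their union. -/
theorem alt_glue_aux {r : ℕ} (A B : Finset β) {u v : β} (huv : u ≠ v) (hAB : Disjoint A B)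
    (hA : u ∉ A ∧ v ∉ A) (hB : u ∉ B ∧ v ∉ B) (hAB' : A.card = B.card)
    (h1 : HasPres (alternatingGroup {x : β // x ∉ B}) r)
    (h2 : HasPres (alternatingGroup {x : β // x ∉ A}) r) :
    HasPres (alternatingGroup β) (r + r + 11) := by
  classical
  let f1 : {x : β // x ∉ B} ↪ β := Function.Embedding.subtype _
  let f2 : {x : β // x ∉ A} ↪ β := Function.Embedding.subtype _
  let j1 : {x : β // x ∉ A ∧ x ∉ B} ↪ {x : β // x ∉ B} :=
    ⟨fun x => ⟨x.1, x.2.2⟩, fun x y h => Subtype.ext (congrArg (fun z : {x : β // x ∉ B} => z.1) h)⟩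
  let j2 : {x : β // x ∉ A ∧ x ∉ B} ↪ {x : β // x ∉ A} :=
    ⟨fun x => ⟨x.1, x.2.1⟩, fun x y h => Subtype.ext (congrArg (fun z : {x : β // x ∉ A} => z.1) h)⟩
  let kA : {x : β // x ∈ A} ↪ {x : β // x ∉ B} :=
    ⟨fun x => ⟨x.1, Finset.disjoint_left.mp hAB x.2⟩, fun x y h => Subtype.ext (congrArg (fun z : {x : β // x ∉ B} => z.1) h)⟩
  let kB : {x : β // x ∈ B} ↪ {x : β // x ∉ A} :=
    ⟨fun x => ⟨x.1, Finset.disjoint_right.mp hAB x.2⟩, fun x y h => Subtype.ext (congrArg (fun z : {x : β // x ∉ A} => z.1) h)⟩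
  let u1 : {x : β // x ∉ B} := ⟨u, hB.1⟩
  let v1 : {x : β // x ∉ B} := ⟨v, hB.2⟩
  let u2 : {x : β // x ∉ A} := ⟨u, hA.1⟩
  let v2 : {x : β // x ∉ A} := ⟨v, hA.2⟩
  let u0 : {x : β // x ∉ A ∧ x ∉ B} := ⟨u, hA.1, hB.1⟩
  let v0 : {x : β // x ∉ A ∧ x ∉ B} := ⟨v, hA.2, hB.2⟩
  have huv1 : u1 ≠ v1 := fun h => huv (congrArg Subtype.val h)
  have huv2 : u2 ≠ v2 := fun h => huv (congrArg Subtype.val h)
  have huv0 : u0 ≠ v0 := fun h => huv (congrArg Subtype.val h)
  let r1 : ∀ z : Rest u v, z.1 ∉ B → Rest u1 v1 := fun z h =>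
    ⟨⟨z.1, h⟩, fun e => z.2.1 (congrArg Subtype.val e), fun e => z.2.2 (congrArg Subtype.val e)⟩
  let r2 : ∀ z : Rest u v, z.1 ∉ A → Rest u2 v2 := fun z h =>
    ⟨⟨z.1, h⟩, fun e => z.2.1 (congrArg Subtype.val e), fun e => z.2.2 (congrArg Subtype.val e)⟩
  let C := Monoid.Coprod (alternatingGroup {x : β // x ∉ B}) (alternatingGroup {x : β // x ∉ A})
  let i1 : alternatingGroup {x : β // x ∉ B} →* C := Monoid.Coprod.inl
  let i2 : alternatingGroup {x : β // x ∉ A} →* C := Monoid.Coprod.inr
  let Φ : C →* alternatingGroup β := Monoid.Coprod.lift (altMap f1) (altMap f2)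
  have hΦ1 : ∀ g, Φ (i1 g) = altMap f1 g := fun g => Monoid.Coprod.lift_apply_inl _ _ g
  have hΦ2 : ∀ g, Φ (i2 g) = altMap f2 g := fun g => Monoid.Coprod.lift_apply_inr _ _ g
  have hΦc1 : ∀ z h, Φ (i1 (cycR huv1 (r1 z h))) = cycR huv z := fun z h => by
    rw [hΦ1, altMap_cycR]; rfl
  have hΦc2 : ∀ z h, Φ (i2 (cycR huv2 (r2 z h))) = cycR huv z := fun z h => by
    rw [hΦ2, altMap_cycR]; rfl
  have hΦs : Function.Surjective Φ := by
    rw [← MonoidHom.range_eq_top, eq_top_iff, ← closure_cycR huv, Subgroup.closure_le]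
    rintro _ ⟨z, rfl⟩
    by_cases h : z.1 ∈ B
    · exact ⟨_, hΦc2 z (Finset.disjoint_right.mp hAB h)⟩
    · exact ⟨_, hΦc1 z h⟩
  obtain ⟨o1, o2, ho⟩ := alt_two_gen {x : β // x ∉ A ∧ x ∉ B}
  let SO : Finset C := {i1 (altMap j1 o1) * (i2 (altMap j2 o1))⁻¹,
    i1 (altMap j1 o2) * (i2 (altMap j2 o2))⁻¹}
  have hΦo : ∀ o, Φ (i1 (altMap j1 o)) = Φ (i2 (altMap j2 o)) := fun o => by
    rw [hΦ1, hΦ2, altMap_trans, altMap_trans]; rfl
  have hA3 : ∀ z : Rest u v, z.1 ∈ A → z.1 ∉ B := fun z h => Finset.disjoint_left.mp hAB h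
  have hB3 : ∀ z : Rest u v, z.1 ∈ B → z.1 ∉ A := fun z h => Finset.disjoint_right.mp hAB h
  have hΦcross : ∀ (i j : Rest u v) (hi : i.1 ∈ A) (hj : j.1 ∈ B),
      Φ ((i1 (cycR huv1 (r1 i (hA3 i hi))) * i2 (cycR huv2 (r2 j (hB3 j hj)))) ^ 2) = 1 := by
    intro i j hi hj
    rw [map_pow, map_mul, hΦc1, hΦc2]
    exact cycR_sq huv i j fun h => hA3 i hi (h ▸ hj)
  -- the cross relations
  obtain ⟨SX, hSXcard, hSXone, hSX⟩ : ∃ SX : Finset C, SX.card ≤ 9 ∧ (∀ x ∈ SX, Φ x = 1) ∧
      ∀ {Q : Type u} [Group Q] (q : C →* Q), (∀ x ∈ SX, q x = 1) →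
        ∀ (i j : Rest u v) (hi : i.1 ∈ A) (hj : j.1 ∈ B),
          (q (i1 (cycR huv1 (r1 i (hA3 i hi)))) * q (i2 (cycR huv2 (r2 j (hB3 j hj))))) ^ 2 = 1 := by
    rcases le_or_gt A.card 2 with hk | hk
    · let mkA : {x : β // x ∈ A} → Rest u v := fun a =>
        ⟨a.1, fun e => hA.1 (e ▸ a.2), fun e => hA.2 (e ▸ a.2)⟩
      let mkB : {x : β // x ∈ B} → Rest u v := fun a =>
        ⟨a.1, fun e => hB.1 (e ▸ a.2), fun e => hB.2 (e ▸ a.2)⟩
      refine ⟨Finset.univ.image fun p : {x : β // x ∈ A} × {x : β // x ∈ B} =>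
        (i1 (cycR huv1 (r1 (mkA p.1) (hA3 _ p.1.2))) * i2 (cycR huv2 (r2 (mkB p.2) (hB3 _ p.2.2)))) ^ 2,
        ?_, ?_, ?_⟩
      · refine Finset.card_image_le.trans ?_
        rw [Finset.card_univ, Fintype.card_prod, Fintype.card_coe, Fintype.card_coe, ← hAB']
        nlinarith [hk]
      · intro x hx
        obtain ⟨p, -, rfl⟩ := Finset.mem_image.mp hx
        exact hΦcross _ _ p.1.2 p.2.2
      · intro Q _ q hq i j hi hj
        rw [← map_mul, ← map_pow]
        exact hq _ (Finset.mem_image.mpr ⟨(⟨i.1, hi⟩, ⟨j.1, hj⟩), Finset.mem_univ _, rfl⟩)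
    obtain ⟨a1, a2, ha⟩ := alt_two_gen {x : β // x ∈ A}
    obtain ⟨b1, b2, hb⟩ := alt_two_gen {x : β // x ∈ B}
    obtain ⟨a0, ha0⟩ : A.Nonempty := Finset.card_pos.mp (by omega)
    obtain ⟨b0, hb0⟩ : B.Nonempty := Finset.card_pos.mp (by omega)
    let i0 : Rest u v := ⟨a0, fun e => hA.1 (e ▸ ha0), fun e => hA.2 (e ▸ ha0)⟩
    let j0 : Rest u v := ⟨b0, fun e => hB.1 (e ▸ hb0), fun e => hB.2 (e ▸ hb0)⟩
    let GA : alternatingGroup {x : β // x ∈ A} →* C := i1.comp (altMap kA)
    let GB : alternatingGroup {x : β // x ∈ B} →* C := i2.comp (altMap kB)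
    let EA : C := i1 (cycR huv1 (r1 i0 (hA3 i0 ha0)))
    let EB : C := i2 (cycR huv2 (r2 j0 (hB3 j0 hb0)))
    let com : C → C → C := fun x y => x * y * x⁻¹ * y⁻¹
    refine ⟨{com (GA a1) (GB b1), com (GA a1) (GB b2), com (GA a2) (GB b1), com (GA a2) (GB b2),
      com (GA a1) EB, com (GA a2) EB, com (GB b1) EA, com (GB b2) EA, (EA * EB) ^ 2}, ?_, ?_, ?_⟩
    · refine (Finset.card_insert_le _ _).trans (Nat.succ_le_succ ?_)
      refine (Finset.card_insert_le _ _).trans (Nat.succ_le_succ ?_)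
      refine (Finset.card_insert_le _ _).trans (Nat.succ_le_succ ?_)
      refine (Finset.card_insert_le _ _).trans (Nat.succ_le_succ ?_)
      exact Finset.card_le_five
    · have hab : ∀ a b, Commute (Φ (GA a)) (Φ (GB b)) := fun a b => by
        show Commute (Φ (i1 (altMap kA a))) (Φ (i2 (altMap kB b)))
        rw [hΦ1, hΦ2, altMap_trans, altMap_trans]
        refine altMap_commute _ _ (fun x y h => Finset.disjoint_left.mp hAB x.2 ?_) a b
        have h' : x.1 = y.1 := h
        rw [h']
        exact y.2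
      have haB : ∀ a, Commute (Φ (GA a)) (Φ EB) := fun a => by
        show Commute (Φ (i1 (altMap kA a))) (Φ (i2 _))
        rw [hΦ1, hΦc2, altMap_trans]
        have fix : ∀ x, x ∉ A → (altMap (kA.trans f1) a : Perm β) x = x := fun x hx => by
          rw [coe_altMap]
          exact permMap_of_notMem _ _ fun ⟨y, hy⟩ => hx (hy ▸ y.2)
        exact mul_inv_eq_iff_eq_mul.mp
          (conj_cycR huv _ (fix u hA.1) (fix v hA.2) j0 j0 (fix _ (hB3 j0 hb0)))
      have hbA : ∀ b, Commute (Φ (GB b)) (Φ EA) := fun b => by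
        show Commute (Φ (i2 (altMap kB b))) (Φ (i1 _))
        rw [hΦ2, hΦc1, altMap_trans]
        have fix : ∀ x, x ∉ B → (altMap (kB.trans f2) b : Perm β) x = x := fun x hx => by
          rw [coe_altMap]
          exact permMap_of_notMem _ _ fun ⟨y, hy⟩ => hx (hy ▸ y.2)
        exact mul_inv_eq_iff_eq_mul.mp
          (conj_cycR huv _ (fix u hB.1) (fix v hB.2) i0 i0 (fix _ (hA3 i0 ha0)))
      have hcom : ∀ x y, Commute (Φ x) (Φ y) → Φ (com x y) = 1 := fun x y h => by
        show Φ (x * y * x⁻¹ * y⁻¹) = 1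
        rw [map_mul, map_mul, map_mul, map_inv, map_inv, h.eq]
        group
      intro x hx
      simp only [Finset.mem_insert, Finset.mem_singleton] at hx
      rcases hx with rfl | rfl | rfl | rfl | rfl | rfl | rfl | rfl | rfl
      · exact hcom _ _ (hab _ _)
      · exact hcom _ _ (hab _ _)
      · exact hcom _ _ (hab _ _)
      · exact hcom _ _ (hab _ _)
      · exact hcom _ _ (haB _)
      · exact hcom _ _ (haB _)
      · exact hcom _ _ (hbA _)
      · exact hcom _ _ (hbA _)
      · exact hΦcross i0 j0 ha0 hb0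
    · intro Q _ q hq
      have hcomm : ∀ x y, q (com x y) = 1 → Commute (q x) (q y) := fun x y h => by
        change q (x * y * x⁻¹ * y⁻¹) = 1 at h
        rw [map_mul, map_mul, map_mul, map_inv, map_inv, mul_inv_eq_one, mul_inv_eq_iff_eq_mul] at h
        exact h
      have gen : ∀ {H : Type u} [Group H] (φ : H →* Q) (x1 x2 : H) (_ : Subgroup.closure {x1, x2} = ⊤)
          (z : Q), Commute (φ x1) z → Commute (φ x2) z → ∀ x, Commute (φ x) z := by
        intro H _ φ x1 x2 hH z h1 h2 x
        have : (⊤ : Subgroup H) ≤ (Subgroup.centralizer {z}).comap φ := by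
          rw [← hH, Subgroup.closure_le]
          rintro y (rfl | rfl)
          · exact Subgroup.mem_centralizer_singleton_iff.mpr h1.eq
          · exact Subgroup.mem_centralizer_singleton_iff.mpr h2.eq
        exact Subgroup.mem_centralizer_singleton_iff.mp (this (Subgroup.mem_top x))
      have cEB : ∀ a, Commute (q (GA a)) (q EB) := fun a =>
        gen (q.comp GA) a1 a2 ha _ (hcomm _ _ (hq _ (by simp))) (hcomm _ _ (hq _ (by simp))) a
      have cEA : ∀ b, Commute (q (GB b)) (q EA) := fun b =>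
        gen (q.comp GB) b1 b2 hb _ (hcomm _ _ (hq _ (by simp))) (hcomm _ _ (hq _ (by simp))) b
      have c1 : ∀ a, Commute (q (GA a)) (q (GB b1)) := fun a =>
        gen (q.comp GA) a1 a2 ha _ (hcomm _ _ (hq _ (by simp))) (hcomm _ _ (hq _ (by simp))) a
      have c2 : ∀ a, Commute (q (GA a)) (q (GB b2)) := fun a =>
        gen (q.comp GA) a1 a2 ha _ (hcomm _ _ (hq _ (by simp))) (hcomm _ _ (hq _ (by simp))) a
      have cAB : ∀ a b, Commute (q (GB b)) (q (GA a)) := fun a b =>
        gen (q.comp GB) b1 b2 hb _ (c1 a).symm (c2 a).symm b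
      intro i j hi hj
      obtain ⟨g, hg⟩ := exists_even_move (α := {x : β // x ∈ A})
        (by rw [Fintype.card_coe]; omega) ⟨a0, ha0⟩ ⟨i.1, hi⟩
      obtain ⟨h, hh⟩ := exists_even_move (α := {x : β // x ∈ B})
        (by rw [Fintype.card_coe]; omega) ⟨b0, hb0⟩ ⟨j.1, hj⟩
      have e1 : altMap kA g * cycR huv1 (r1 i0 (hA3 i0 ha0)) * (altMap kA g)⁻¹ =
          cycR huv1 (r1 i (hA3 i hi)) := by
        refine conj_cycR huv1 _ ?_ ?_ _ _ ?_
        · exact permMap_of_notMem _ _ fun ⟨y, hy⟩ => hA.1 (by have h' : y.1 = u := congrArg Subtype.val hy; rw [← h']; exact y.2)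
        · exact permMap_of_notMem _ _ fun ⟨y, hy⟩ => hA.2 (by have h' : y.1 = v := congrArg Subtype.val hy; rw [← h']; exact y.2)
        · show permMap kA (g : Perm _) (kA ⟨a0, ha0⟩) = _
          rw [permMap_apply, hg]
          rfl
      have e2 : altMap kB h * cycR huv2 (r2 j0 (hB3 j0 hb0)) * (altMap kB h)⁻¹ =
          cycR huv2 (r2 j (hB3 j hj)) := by
        refine conj_cycR huv2 _ ?_ ?_ _ _ ?_
        · exact permMap_of_notMem _ _ fun ⟨y, hy⟩ => hB.1 (by have h' : y.1 = u := congrArg Subtype.val hy; rw [← h']; exact y.2)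
        · exact permMap_of_notMem _ _ fun ⟨y, hy⟩ => hB.2 (by have h' : y.1 = v := congrArg Subtype.val hy; rw [← h']; exact y.2)
        · show permMap kB (h : Perm _) (kB ⟨b0, hb0⟩) = _
          rw [permMap_apply, hh]
          rfl
      rw [← e1, ← e2]
      simp only [map_mul, map_inv]
      change ((q (GA g) * q EA * (q (GA g))⁻¹) * (q (GB h) * q EB * (q (GB h))⁻¹)) ^ 2 = 1
      have hX := cAB g h
      have hEB : q (GB h) * q EB * (q (GB h))⁻¹ =
          q (GA g) * (q (GB h) * q EB * (q (GB h))⁻¹) * (q (GA g))⁻¹ := by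
        have : Commute (q (GA g)) (q (GB h) * q EB * (q (GB h))⁻¹) :=
          ((hX.symm).mul_right (cEB g)).mul_right hX.symm.inv_right
        rw [this.eq, mul_inv_cancel_right]
      rw [hEB]
      refine sq_conj ?_
      rw [show q EA = q (GB h) * q EA * (q (GB h))⁻¹ by rw [(cEA h).eq, mul_inv_cancel_right]]
      refine sq_conj ?_
      rw [← map_mul, ← map_pow]
      exact hq _ (by simp)
  refine ((h1.coprod h2).of_universal Φ hΦs (SO ∪ SX) ?_ ?_).mono ?_
  · intro x hx
    rcases Finset.mem_union.mp hx with h | h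
    · simp only [SO, Finset.mem_insert, Finset.mem_singleton] at h
      rcases h with rfl | rfl <;> rw [map_mul, map_inv, hΦo, mul_inv_cancel]
    · exact hSXone x h
  · intro c hc
    set N := Subgroup.normalClosure (↑(SO ∪ SX) : Set C)
    let q : C →* C ⧸ N := QuotientGroup.mk' N
    have hrel : ∀ y ∈ SO ∪ SX, q y = 1 := fun y hy =>
      (QuotientGroup.eq_one_iff _).mpr (Subgroup.subset_normalClosure hy)
    have hO : ∀ o, q (i1 (altMap j1 o)) = q (i2 (altMap j2 o)) := by
      have : (q.comp i1).comp (altMap j1) = (q.comp i2).comp (altMap j2) := by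
        refine MonoidHom.eq_of_eqOn_dense ho ?_
        rintro o (rfl | rfl)
        · have h := hrel (i1 (altMap j1 o) * (i2 (altMap j2 o))⁻¹)
            (Finset.mem_union_left _ (by simp [SO]))
          rw [map_mul, map_inv, mul_inv_eq_one] at h
          exact h
        · have h := hrel (i1 (altMap j1 o) * (i2 (altMap j2 o))⁻¹)
            (Finset.mem_union_left _ (by simp [SO]))
          rw [map_mul, map_inv, mul_inv_eq_one] at h
          exact h
      exact fun o => DFunLike.congr_fun this o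
    have hboth : ∀ z hzA hzB, q (i1 (cycR huv1 (r1 z hzB))) = q (i2 (cycR huv2 (r2 z hzA))) := by
      intro z hzA hzB
      have := hO (cycR huv0 ⟨⟨z.1, hzA, hzB⟩, fun e => z.2.1 (congrArg Subtype.val e),
        fun e => z.2.2 (congrArg Subtype.val e)⟩)
      rwa [altMap_cycR, altMap_cycR] at this
    let E : Rest u v → C ⧸ N := fun z =>
      if h : z.1 ∈ B then q (i2 (cycR huv2 (r2 z (hB3 z h)))) else q (i1 (cycR huv1 (r1 z h)))
    have hE1 : ∀ z h, E z = q (i1 (cycR huv1 (r1 z h))) := fun z h => dif_neg h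
    have hE2 : ∀ z h, E z = q (i2 (cycR huv2 (r2 z h))) := by
      intro z h
      by_cases hz : z.1 ∈ B
      · exact dif_pos hz
      · exact (hE1 z hz).trans (hboth z h hz)
    have hABcross : ∀ (i j : Rest u v) (hi : i.1 ∈ A) (hj : j.1 ∈ B), (E i * E j) ^ 2 = 1 := fun i j hi hj => by
      rw [hE1 i (hA3 i hi), hE2 j (hB3 j hj)]
      exact hSX q (fun x hx => hrel x (Finset.mem_union_right _ hx)) i j hi hj
    obtain ⟨hfin, hle⟩ := carmichael_criterion huv E (fun z => by
        by_cases hz : z.1 ∈ B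
        · rw [hE2 z (hB3 z hz), ← map_pow, ← map_pow, cycR_pow_three, map_one, map_one]
        · rw [hE1 z hz, ← map_pow, ← map_pow, cycR_pow_three, map_one, map_one])
      (fun x y hxy => by
        by_cases hxA : x.1 ∈ A
        · by_cases hyB : y.1 ∈ B
          · exact hABcross x y hxA hyB
          · rw [hE1 x (hA3 x hxA), hE1 y hyB, ← map_mul, ← map_mul, ← map_pow, ← map_pow,
              cycR_sq huv1 _ _ (fun h => hxy (Subtype.ext (congrArg (fun w : Rest u1 v1 => w.1.1) h))),
              map_one, map_one]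
        · by_cases hyA : y.1 ∈ A
          · by_cases hxB : x.1 ∈ B
            · exact sq_flip (hABcross y x hyA hxB)
            · rw [hE1 x hxB, hE1 y (hA3 y hyA), ← map_mul, ← map_mul, ← map_pow, ← map_pow,
                cycR_sq huv1 _ _ (fun h => hxy (Subtype.ext (congrArg (fun w : Rest u1 v1 => w.1.1) h))),
                map_one, map_one]
          · rw [hE2 x hxA, hE2 y hyA, ← map_mul, ← map_mul, ← map_pow, ← map_pow,
              cycR_sq huv2 _ _ (fun h => hxy (Subtype.ext (congrArg (fun w : Rest u2 v2 => w.1.1) h))),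
              map_one, map_one])
      (by
        rw [eq_top_iff]
        rintro z -
        obtain ⟨z, rfl⟩ := QuotientGroup.mk'_surjective N z
        induction z using Monoid.Coprod.induction_on with
        | inl g =>
          have : (⊤ : Subgroup (alternatingGroup {x : β // x ∉ B})) ≤
              (Subgroup.closure (Set.range E)).comap (q.comp i1) := by
            rw [← closure_cycR huv1, Subgroup.closure_le]
            rintro _ ⟨w, rfl⟩
            exact Subgroup.subset_closure ⟨⟨w.1.1, fun e => w.2.1 (Subtype.ext e),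
              fun e => w.2.2 (Subtype.ext e)⟩, hE1 _ w.1.2⟩
          exact this (Subgroup.mem_top g)
        | inr g =>
          have : (⊤ : Subgroup (alternatingGroup {x : β // x ∉ A})) ≤
              (Subgroup.closure (Set.range E)).comap (q.comp i2) := by
            rw [← closure_cycR huv2, Subgroup.closure_le]
            rintro _ ⟨w, rfl⟩
            exact Subgroup.subset_closure ⟨⟨w.1.1, fun e => w.2.1 (Subtype.ext e),
              fun e => w.2.2 (Subtype.ext e)⟩, hE2 _ w.1.2⟩
          exact this (Subgroup.mem_top g)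
        | mul p p' hp hp' => rw [map_mul]; exact mul_mem hp hp')
    refine mem_normalClosure_of_card_le Φ hΦs _ ?_ hfin hle c hc
    intro x hx
    rcases Finset.mem_union.mp hx with h | h
    · simp only [SO, Finset.mem_insert, Finset.mem_singleton] at h
      rcases h with rfl | rfl <;> rw [map_mul, map_inv, hΦo, mul_inv_cancel]
    · exact hSXone x h
  · have := Finset.card_union_le SO SX
    have h2 : SO.card ≤ 2 := Finset.card_le_two
    omega

/-- From `Alt(m)` to `Alt(n)`, `m < n ≤ 2m - 3`. -/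
theorem alt_glue {m n r : ℕ} (hmn : m < n) (hn : n + 3 ≤ 2 * m)
    (hm : HasPres (alternatingGroup (Fin m)) r) :
    HasPres (alternatingGroup (Fin n)) (r + r + 11) := by
  classical
  let A : Finset (Fin n) := Finset.univ.filter fun x => 2 ≤ x.val ∧ x.val < 2 + (n - m)
  let B : Finset (Fin n) := Finset.univ.filter fun x => m ≤ x.val
  have hA : A.card = n - m := by
    refine Finset.card_eq_of_bijective (fun i hi => ⟨i + 2, by omega⟩) ?_ ?_ ?_
    · intro x hx
      simp only [A, Finset.mem_filter, Finset.mem_univ, true_and] at hx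
      exact ⟨x.val - 2, by omega, Fin.ext (by simp only; omega)⟩
    · intro i hi; simp [A]; omega
    · intro i j _ _ h; simpa using congrArg Fin.val h
  have hB : B.card = n - m := by
    refine Finset.card_eq_of_bijective (fun i hi => ⟨i + m, by omega⟩) ?_ ?_ ?_
    · intro x hx
      simp only [B, Finset.mem_filter, Finset.mem_univ, true_and] at hx
      exact ⟨x.val - m, by omega, Fin.ext (by simp only; omega)⟩
    · intro i hi; simp [B]
    · intro i j _ _ h; simpa using congrArg Fin.val h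
  have cA : Fintype.card {x : Fin n // x ∉ A} = m := by
    rw [Fintype.card_subtype_compl, Fintype.card_coe, hA, Fintype.card_fin]; omega
  have cB : Fintype.card {x : Fin n // x ∉ B} = m := by
    rw [Fintype.card_subtype_compl, Fintype.card_coe, hB, Fintype.card_fin]; omega
  refine alt_glue_aux A B (u := ⟨0, by omega⟩) (v := ⟨1, by omega⟩) (by simp) ?_ (by simp [A])
    ⟨by simp [B]; omega, by simp [B]; omega⟩ (hA.trans hB.symm)
    (hm.congr (Fintype.equivFinOfCardEq cB).symm.altCongrHom)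
    (hm.congr (Fintype.equivFinOfCardEq cA).symm.altCongrHom)
  rw [Finset.disjoint_left]
  intro x hxA hxB
  simp only [A, B, Finset.mem_filter, Finset.mem_univ, true_and] at hxA hxB
  omega

end Cfsg.Agent.ShortPres
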