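import Cfsg.Agent.ShortPres.SLRel
import Cfsg.Agent.ShortPres.SL2Gen
import Cfsg.Agent.ShortPres.AltPrime
import Cfsg.Agent.ShortPres.AltGlue

/-!
# `SL(n, F)` has a bounded number of relations, `n ≥ 3`
-/

set_option autoImplicit false

namespace Cfsg.Agent.ShortPres

open Equiv Equiv.Perm Cfsg.Agent.SL2Pres Cfsg.Agent.SLMult Cfsg.Agent.AltMult
open scoped commutatorElement MatrixGroups

universe u

variable {n : ℕ}

theorem exists_perm_map {m : ℕ} (f g : Fin m → Fin n) (hf : Function.Injective f)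
    (hg : Function.Injective g) : ∃ σ : Perm (Fin n), ∀ i, σ (f i) = g i := by
  classical
  let e : {x // x ∈ Set.range f} ≃ {x // x ∈ Set.range g} :=
    (Equiv.ofInjective f hf).symm.trans (Equiv.ofInjective g hg)
  refine ⟨e.extendSubtype, fun i => ?_⟩
  rw [Equiv.extendSubtype_apply_of_mem e (f i) ⟨i, rfl⟩]
  show ((Equiv.ofInjective g hg) ((Equiv.ofInjective f hf).symm ⟨f i, i, rfl⟩) : Fin n) = g i
  rw [Equiv.ofInjective_symm_apply hf i]
  rfl

/-- An even permutation which maps `f` to `g` up to a swap of the first two entries. -/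
theorem exists_alt_map {m : ℕ} (f g : Fin (m + 2) → Fin n) (hf : Function.Injective f)
    (hg : Function.Injective g) :
    ∃ σ : alternatingGroup (Fin n), (∀ i, σ.1 (f i) = g i) ∨ ∀ i, σ.1 (f (swap 0 1 i)) = g i := by
  obtain ⟨σ, hσ⟩ := exists_perm_map f g hf hg
  rcases Int.units_eq_one_or (sign σ) with h | h
  · exact ⟨⟨σ, mem_alternatingGroup.mpr h⟩, Or.inl hσ⟩
  · have hne : f 0 ≠ f 1 := hf.ne (by simp)
    refine ⟨⟨σ * swap (f 0) (f 1), mem_alternatingGroup.mpr (by
      rw [map_mul, sign_swap hne, h]; rfl)⟩, Or.inr fun i => ?_⟩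
    show σ (swap (f 0) (f 1) (f (swap 0 1 i))) = g i
    rw [hf.swap_apply, swap_apply_self, hσ]

variable {F : Type u} [Field F] [Fintype F]

theorem sl_hasPres (hn : 3 ≤ n) {rA : ℕ} (hA : HasPres (alternatingGroup (Fin n)) rA) {ν : Fˣ}
    (hν : orderOf ν = Fintype.card F - 1) (R : Finset (Fin n × Fin n × Fin n))
    (hRd : ∀ t ∈ R, t.1 ≠ t.2.1 ∧ t.1 ≠ t.2.2 ∧ t.2.1 ≠ t.2.2)
    (hR : ∀ i j k, i ≠ j → i ≠ k → j ≠ k →
      ∃ g : alternatingGroup (Fin n), ∃ t ∈ R, g.1 t.1 = i ∧ g.1 t.2.1 = j ∧ g.1 t.2.2 = k)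
    (Γ : Finset ℕ) (hΓ0 : 0 ∈ Γ) (hΓ3 : n = 3 → ∀ γ < 3, γ ∈ Γ) :
    HasPres (Matrix.SpecialLinearGroup (Fin n) F) (rA + 9 + (11 + R.card * (4 + 3 * Γ.card))) := by
  classical
  let z0 : Fin n := ⟨0, by omega⟩
  let z1 : Fin n := ⟨1, by omega⟩
  let z2 : Fin n := ⟨2, by omega⟩
  have h01 : z0 ≠ z1 := by simp [z0, z1]
  have h02 : z0 ≠ z2 := by simp [z0, z2]
  have h12 : z1 ≠ z2 := by simp [z1, z2]
  let C := Monoid.Coprod (alternatingGroup (Fin n)) SL(2, F)
  let ι : alternatingGroup (Fin n) →* C := Monoid.Coprod.inl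
  let κ : SL(2, F) →* C := Monoid.Coprod.inr
  let Φ : C →* Matrix.SpecialLinearGroup (Fin n) F :=
    Monoid.Coprod.lift permMat (CurtisTitsA.emb h01)
  have hΦι : ∀ g, Φ (ι g) = permMat g := fun g => Monoid.Coprod.lift_apply_inl _ _ g
  have hΦκ : ∀ s, Φ (κ s) = CurtisTitsA.emb h01 s := fun s => Monoid.Coprod.lift_apply_inr _ _ s
  -- blocks
  have hpair : ∀ i j : Fin n, i ≠ j → ∃ g : alternatingGroup (Fin n),
      (g.1 z0 = i ∧ g.1 z1 = j) ∨ (g.1 z0 = j ∧ g.1 z1 = i) := by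
    intro i j hij
    obtain ⟨g, h | h⟩ := exists_alt_map (m := 0) ![z0, z1] ![i, j]
      (by intro a b; fin_cases a <;> fin_cases b <;> simp [h01, h01.symm])
      (by intro a b; fin_cases a <;> fin_cases b <;> simp [hij, hij.symm])
    · exact ⟨g, Or.inl ⟨h 0, h 1⟩⟩
    · exact ⟨g, Or.inr ⟨h 1, h 0⟩⟩
  let gp : Fin n → Fin n → alternatingGroup (Fin n) := fun i j =>
    if h : i ≠ j then (hpair i j h).choose else 1
  have hgp : ∀ i j, i ≠ j → ((gp i j).1 z0 = i ∧ (gp i j).1 z1 = j) ∨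
      ((gp i j).1 z0 = j ∧ (gp i j).1 z1 = i) := fun i j h => by
    simp only [gp, dif_pos h]
    exact (hpair i j h).choose_spec
  let LC : Fin n → Fin n → (SL(2, F) →* C) := fun i j =>
    (MulAut.conj (ι (gp i j))).toMonoidHom.comp
      (κ.comp (if (gp i j).1 z0 = i then MonoidHom.id _ else flip2))
  have hΦLC : ∀ i j (hij : i ≠ j) s, Φ (LC i j s) = CurtisTitsA.emb hij s := by
    intro i j hij s
    simp only [LC, MonoidHom.comp_apply, MulEquiv.coe_toMonoidHom, MulAut.conj_apply, map_mul,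
      map_inv]
    rw [hΦι, hΦκ, emb_conj]
    rcases hgp i j hij with ⟨a, b⟩ | ⟨a, b⟩
    · rw [if_pos a]
      simp only [a, b, MonoidHom.id_apply]
    · rw [if_neg (by rw [a]; exact hij.symm)]
      simp only [a, b]
      rw [emb_swap hij, flip2_flip2]
  -- relations
  obtain ⟨ga, gb, hgab⟩ := sl_two_pair F
  let G3 : Finset SL(2, F) := {ga, gb}
  have hG3 : Subgroup.closure (G3 : Set SL(2, F)) = ⊤ := by
    simp only [G3, Finset.coe_insert, Finset.coe_singleton]
    exact hgab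
  have hG3c : G3.card ≤ 2 := Finset.card_le_two
  obtain ⟨s1, s2, hs⟩ := alt_two_gen {x : Fin n // x ≠ z0 ∧ x ≠ z1}
  let fr : {x : Fin n // x ≠ z0 ∧ x ≠ z1} ↪ Fin n := Function.Embedding.subtype _
  let com : C → C → C := fun x y => x * y * x⁻¹ * y⁻¹
  let SS : Finset C := (({s1, s2} : Finset _) ×ˢ G3).image
    fun p => com (ι (altMap fr p.1)) (κ p.2)
  let SW : Finset C :=
    if h : ∃ g : alternatingGroup (Fin n), g.1 z0 = z1 ∧ g.1 z1 = z0 then
      G3.image fun s => ι h.choose * κ s * (ι h.choose)⁻¹ * (κ (flip2 s))⁻¹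
    else ∅
  let SD : Finset C :=
    if h : 4 ≤ n then
      (G3 ×ˢ G3).image fun p => com (LC z0 z1 p.1) (LC z2 ⟨3, by omega⟩ p.2)
    else ∅
  let XC : Fin n → Fin n → F → C := fun i j a => rootEl LC i j a
  let HC : Fin n → Fin n → C := fun i j => torEl LC ν i j
  let RT : Fin n × Fin n × Fin n → Finset C := fun t =>
    ({com (HC t.2.1 t.2.2) (HC t.1 t.2.1), com (HC t.1 t.2.2) (HC t.1 t.2.1),
      HC t.2.1 t.2.2 * XC t.1 t.2.1 1 * (HC t.2.1 t.2.2)⁻¹ * (XC t.1 t.2.1 ((ν⁻¹ : Fˣ) : F))⁻¹,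
      HC t.1 t.2.2 * XC t.1 t.2.1 1 * (HC t.1 t.2.2)⁻¹ * (XC t.1 t.2.1 (ν : F))⁻¹} : Finset C) ∪
    Γ.biUnion fun γ =>
      ({com (XC t.1 t.2.1 ((ν : F) ^ γ)) (XC t.2.1 t.2.2 1) * (XC t.1 t.2.2 ((ν : F) ^ γ))⁻¹,
        com (XC t.1 t.2.1 ((ν : F) ^ γ)) (XC t.1 t.2.2 1),
        com (XC t.1 t.2.1 ((ν : F) ^ γ)) (XC t.2.2 t.2.1 1)} : Finset C)
  let GX : Subgroup C := Subgroup.closure (Set.range fun p : Fin n × Fin n × F => XC p.1 p.2.1 p.2.2)
  have hGX : ∀ z, ∃ w ∈ GX, Φ w = z := by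
    have : (⊤ : Subgroup (Matrix.SpecialLinearGroup (Fin n) F)) ≤ GX.map Φ := by
      refine (Classical.sl_eq_top_of_transvection (GX.map Φ) fun i j hij c => ?_).ge
      refine ⟨XC i j c, Subgroup.subset_closure ⟨(i, j, c), rfl⟩, ?_⟩
      show Φ (LC i j _) = _
      rw [hΦLC i j hij, CurtisTitsA.emb_tx01, tx_eq hij]
    exact fun z => this (Subgroup.mem_top z)
  obtain ⟨w, hwG, hw⟩ := hGX (permMat (cycA z0 z1 z2 h01 h02))
  let S : Finset C := SS ∪ SW ∪ SD ∪ {ι (cycA z0 z1 z2 h01 h02) * w⁻¹} ∪ R.biUnion RT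
  have hScard : S.card ≤ 11 + R.card * (4 + 3 * Γ.card) := by
    have c1 : SS.card ≤ 4 := Finset.card_image_le.trans (by
      rw [Finset.card_product]; exact Nat.mul_le_mul Finset.card_le_two hG3c)
    have c2 : SW.card ≤ 2 := by
      simp only [SW]; split
      · exact Finset.card_image_le.trans hG3c
      · simp
    have c3 : SD.card ≤ 4 := by
      simp only [SD]; split
      · exact Finset.card_image_le.trans (by rw [Finset.card_product]; exact Nat.mul_le_mul hG3c hG3c)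
      · simp
    have c5 : (R.biUnion RT).card ≤ R.card * (4 + 3 * Γ.card) := by
      refine Finset.card_biUnion_le_card_mul _ _ _ fun t _ => ?_
      refine (Finset.card_union_le _ _).trans (Nat.add_le_add Finset.card_le_four ?_)
      rw [Nat.mul_comm]
      exact Finset.card_biUnion_le_card_mul _ _ _ fun γ _ => Finset.card_le_three
    have u1 := Finset.card_union_le (SS ∪ SW ∪ SD ∪ {ι (cycA z0 z1 z2 h01 h02) * w⁻¹}) (R.biUnion RT)
    have u2 := Finset.card_union_le (SS ∪ SW ∪ SD) {ι (cycA z0 z1 z2 h01 h02) * w⁻¹}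
    have u3 := Finset.card_union_le (SS ∪ SW) SD
    have u4 := Finset.card_union_le SS SW
    simp only [Finset.card_singleton] at u2
    show (SS ∪ SW ∪ SD ∪ {ι (cycA z0 z1 z2 h01 h02) * w⁻¹} ∪ R.biUnion RT).card ≤ _
    omega
  have hΦs : Function.Surjective Φ := fun z => let ⟨w, _, e⟩ := hGX z; ⟨w, e⟩
  have hΦcom : ∀ x y, Commute (Φ x) (Φ y) → Φ (com x y) = 1 := fun x y h => by
    show Φ (x * y * x⁻¹ * y⁻¹) = 1
    rw [map_mul, map_mul, map_mul, map_inv, map_inv, h.eq]
    group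
  have hfrfix : ∀ g, (altMap fr g).1 z0 = z0 ∧ (altMap fr g).1 z1 = z1 := fun g =>
    ⟨permMap_of_notMem _ _ fun ⟨y, hy⟩ => y.2.1 hy, permMap_of_notMem _ _ fun ⟨y, hy⟩ => y.2.2 hy⟩
  have hΦX : ∀ i j, i ≠ j → ∀ a, Φ (XC i j a) = tx i j a := fun i j hij a => by
    show Φ (LC i j _) = _
    rw [hΦLC i j hij, CurtisTitsA.emb_tx01]
  have hΦH : ∀ i j (hij : i ≠ j), Φ (HC i j) = CurtisTitsA.emb hij (dM ν) := fun i j hij =>
    hΦLC i j hij _
  have hS : ∀ x ∈ S, Φ x = 1 := by
    intro x hx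
    simp only [S, Finset.mem_union, Finset.mem_singleton, Finset.mem_biUnion] at hx
    rcases hx with (((hx | hx) | hx) | rfl) | ⟨⟨i, j, k⟩, ht, hx⟩
    · simp only [SS, Finset.mem_image] at hx
      obtain ⟨⟨g, s⟩, -, rfl⟩ := hx
      refine hΦcom _ _ ?_
      rw [hΦι, hΦκ]
      refine mul_inv_eq_iff_eq_mul.mp ?_
      rw [emb_conj]
      simp only [(hfrfix g).1, (hfrfix g).2]
    · simp only [SW] at hx
      split at hx
      · next h =>
        obtain ⟨s, -, rfl⟩ := Finset.mem_image.mp hx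
        rw [map_mul, map_mul, map_mul, map_inv, map_inv, hΦι, hΦκ, hΦκ, emb_conj, mul_inv_eq_one]
        simp only [h.choose_spec.1, h.choose_spec.2]
        rw [emb_swap h01]
      · simp at hx
    · simp only [SD] at hx
      split at hx
      · next h =>
        obtain ⟨⟨s, t⟩, -, rfl⟩ := Finset.mem_image.mp hx
        refine hΦcom _ _ ?_
        rw [hΦLC z0 z1 h01, hΦLC z2 ⟨3, by omega⟩ (by simp [z2])]
        exact emb_disjoint _ _ h02 (by simp [z0]) h12 (by simp [z1]) _ _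
      · simp at hx
    · rw [map_mul, map_inv, hΦι, hw, mul_inv_cancel]
    · obtain ⟨hij, hik, hjk⟩ := hRd _ ht
      simp only [RT, Finset.mem_union, Finset.mem_biUnion, Finset.mem_insert, Finset.mem_singleton]
        at hx hij hik hjk
      rcases hx with (rfl | rfl | rfl | rfl) | ⟨γ, -, rfl | rfl | rfl⟩
      · refine hΦcom _ _ ?_
        rw [hΦH j k hjk, hΦH i j hij]
        exact emb_dM_comm _ _ _ _
      · refine hΦcom _ _ ?_
        rw [hΦH i k hik, hΦH i j hij]
        exact emb_dM_comm _ _ _ _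
      · rw [map_mul, map_mul, map_mul, map_inv, map_inv, hΦH j k hjk, hΦX i j hij, hΦX i j hij,
          mul_inv_eq_one]
        refine emb_dM_conj _ _ hij _ _ ?_
        simp [dd, hij, hik, hjk]
      · rw [map_mul, map_mul, map_mul, map_inv, map_inv, hΦH i k hik, hΦX i j hij, hΦX i j hij,
          mul_inv_eq_one]
        refine emb_dM_conj _ _ hij _ _ ?_
        simp [dd, hij.symm, hjk]
      · show Φ (_ * _ * _⁻¹ * _⁻¹ * _⁻¹) = 1
        rw [map_mul, map_mul, map_mul, map_mul, map_inv, map_inv, map_inv, hΦX i j hij, hΦX j k hjk,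
          hΦX i k hik, mul_inv_eq_one, ← commutatorElement_def, tx_rel hij hjk hik, mul_one]
      · refine hΦcom _ _ ?_
        rw [hΦX i j hij, hΦX i k hik]
        exact tx_comm hij hik hij.symm hik _ _
      · refine hΦcom _ _ ?_
        rw [hΦX i j hij, hΦX k j hjk.symm]
        exact tx_comm hij hjk.symm hjk hij _ _
  refine ((hA.coprod (sl_two_hasPres F)).of_universal Φ hΦs S hS ?_).mono
    (Nat.add_le_add_left hScard _)
  intro c hc
  set N := Subgroup.normalClosure (S : Set C)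
  let q : C →* C ⧸ N := QuotientGroup.mk' N
  have hrel : ∀ y ∈ S, q y = 1 := fun y hy =>
    (QuotientGroup.eq_one_iff _).mpr (Subgroup.subset_normalClosure hy)
  have hcom : ∀ x y, com x y ∈ S → Commute (q x) (q y) := fun x y h => by
    have h1 := hrel _ h
    change q (x * y * x⁻¹ * y⁻¹) = 1 at h1
    rw [map_mul, map_mul, map_mul, map_inv, map_inv, mul_inv_eq_one, mul_inv_eq_iff_eq_mul] at h1
    exact h1
  let φ : alternatingGroup (Fin n) →* C ⧸ N := q.comp ι
  let ψ : SL(2, F) →* C ⧸ N := q.comp κ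
  -- the stabiliser of the first two points
  have hfix : ∀ g : alternatingGroup (Fin n), g.1 z0 = z0 → g.1 z1 = z1 →
      ∀ s, φ g * ψ s * (φ g)⁻¹ = ψ s := by
    intro g a b
    have hgi : ∀ x, x ≠ z0 ∧ x ≠ z1 ↔ g.1 x ≠ z0 ∧ g.1 x ≠ z1 := fun x => by
      constructor
      · rintro ⟨x0, x1⟩
        exact ⟨fun h => x0 (g.1.injective (h.trans a.symm)), fun h => x1 (g.1.injective (h.trans b.symm))⟩
      · rintro ⟨x0, x1⟩
        exact ⟨fun h => x0 (h ▸ a), fun h => x1 (h ▸ b)⟩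
    let g' : Perm {x : Fin n // x ≠ z0 ∧ x ≠ z1} := g.1.subtypePerm (fun x => (hgi x).symm)
    have hg' : permMap fr g' = g.1 := by
      ext x
      by_cases hx : x ∈ Set.range fr
      · obtain ⟨y, rfl⟩ := hx
        rw [permMap_apply]
        rfl
      · rw [permMap_of_notMem _ _ hx]
        rcases (not_and_or.mp fun h => hx ⟨⟨x, h⟩, rfl⟩) with h | h
        · rw [not_ne_iff.mp h, a]
        · rw [not_ne_iff.mp h, b]
    have hsg : sign g' = 1 := by
      rw [← sign_permMap fr, hg', mem_alternatingGroup.mp g.2]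
    have hg : g = altMap fr ⟨g', mem_alternatingGroup.mpr hsg⟩ := Subtype.ext hg'.symm
    have : (⊤ : Subgroup (alternatingGroup {x : Fin n // x ≠ z0 ∧ x ≠ z1})) ≤
        (Subgroup.centralizer (Set.range ψ)).comap (φ.comp (altMap fr)) := by
      rw [← hs, Subgroup.closure_le]
      intro o ho
      rw [SetLike.mem_coe, Subgroup.mem_comap, Subgroup.mem_centralizer_iff]
      rintro _ ⟨s, rfl⟩
      have hle : (⊤ : Subgroup SL(2, F)) ≤
          (Subgroup.centralizer {φ (altMap fr o)}).comap ψ := by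
        rw [← hG3, Subgroup.closure_le]
        intro t ht
        rw [SetLike.mem_coe, Subgroup.mem_comap, Subgroup.mem_centralizer_singleton_iff]
        refine (hcom _ _ ?_).eq.symm
        simp only [S, Finset.mem_union]
        exact Or.inl (Or.inl (Or.inl (Or.inl (Finset.mem_image.mpr
          ⟨(o, t), Finset.mem_product.mpr ⟨by simpa using ho, ht⟩, rfl⟩))))
      exact Subgroup.mem_centralizer_singleton_iff.mp (hle (Subgroup.mem_top s))
    intro s
    have h1 := Subgroup.mem_centralizer_iff.mp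
      (this (Subgroup.mem_top ⟨g', mem_alternatingGroup.mpr hsg⟩)) (ψ s) ⟨s, rfl⟩
    change ψ s * φ (altMap fr ⟨g', mem_alternatingGroup.mpr hsg⟩) =
      φ (altMap fr ⟨g', mem_alternatingGroup.mpr hsg⟩) * ψ s at h1
    rw [← hg] at h1
    rw [← h1, mul_inv_cancel_right]
  have hswap : ∀ g : alternatingGroup (Fin n), g.1 z0 = z1 → g.1 z1 = z0 →
      ∀ s, φ g * ψ s * (φ g)⁻¹ = ψ (flip2 s) := by
    intro g a b s
    have h : ∃ g : alternatingGroup (Fin n), g.1 z0 = z1 ∧ g.1 z1 = z0 := ⟨g, a, b⟩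
    set σ := h.choose
    have hσ : σ.1 z0 = z1 ∧ σ.1 z1 = z0 := h.choose_spec
    have e : (MulAut.conj (φ σ)).toMonoidHom.comp ψ = ψ.comp flip2 := by
      refine MonoidHom.eq_of_eqOn_dense hG3 ?_
      intro t ht
      have h1 := hrel (ι σ * κ t * (ι σ)⁻¹ * (κ (flip2 t))⁻¹) (by
        simp only [S, SW, dif_pos h, Finset.mem_union]
        exact Or.inl (Or.inl (Or.inl (Or.inr (Finset.mem_image.mpr ⟨t, ht, rfl⟩)))))
      rw [map_mul, map_mul, map_mul, map_inv, map_inv, mul_inv_eq_one] at h1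
      exact h1
    have h2 := hfix (σ⁻¹ * g) (by
        show σ.1⁻¹ (g.1 z0) = z0
        rw [a, Perm.inv_eq_iff_eq]; exact hσ.1.symm) (by
        show σ.1⁻¹ (g.1 z1) = z1
        rw [b, Perm.inv_eq_iff_eq]; exact hσ.2.symm) s
    have h3 : φ σ * ψ s * (φ σ)⁻¹ = ψ (flip2 s) := DFunLike.congr_fun e s
    rw [← h3]
    rw [map_mul, map_inv] at h2
    conv_rhs => rw [← h2]
    group
  -- blocks in the quotient
  let LP : Fin n → Fin n → (SL(2, F) →* C ⧸ N) := fun i j => q.comp (LC i j)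
  have hLP : ∀ i j s, LP i j s = φ (gp i j) * ψ ((if (gp i j).1 z0 = i then MonoidHom.id _ else flip2) s) *
      (φ (gp i j))⁻¹ := fun i j s => by
    show q (ι (gp i j) * κ _ * (ι (gp i j))⁻¹) = _
    rw [map_mul, map_mul, map_inv]
    rfl
  have wd : ∀ (g : alternatingGroup (Fin n)) (i j : Fin n), i ≠ j → ∀ s,
      (g.1 z0 = i ∧ g.1 z1 = j → φ g * ψ s * (φ g)⁻¹ = LP i j s) ∧
      (g.1 z0 = j ∧ g.1 z1 = i → φ g * ψ (flip2 s) * (φ g)⁻¹ = LP i j s) := by
    intro g i j hij s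
    rw [hLP]
    set h := (gp i j)⁻¹ * g with hh
    have hg : φ g = φ (gp i j) * φ h := by rw [← map_mul, hh, mul_inv_cancel_left]
    have key : ∀ t t', φ h * ψ t * (φ h)⁻¹ = ψ t' →
        φ g * ψ t * (φ g)⁻¹ = φ (gp i j) * ψ t' * (φ (gp i j))⁻¹ := fun t t' e => by
      rw [hg, ← e]; group
    have hval : ∀ x y, g.1 x = (gp i j).1 y → h.1 x = y := fun x y e => by
      show (gp i j).1⁻¹ (g.1 x) = y
      rw [e]; simp
    rcases hgp i j hij with ⟨p0, p1⟩ | ⟨p0, p1⟩
    · rw [if_pos p0]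
      exact ⟨fun ⟨a, b⟩ => key _ _ (hfix h (hval _ _ (a.trans p0.symm)) (hval _ _ (b.trans p1.symm)) s),
        fun ⟨a, b⟩ => key _ _ ((hswap h (hval _ _ (a.trans p1.symm)) (hval _ _ (b.trans p0.symm)) _).trans
          (by rw [flip2_flip2]; rfl))⟩
    · rw [if_neg (by rw [p0]; exact hij.symm)]
      exact ⟨fun ⟨a, b⟩ => key _ _ (hswap h (hval _ _ (a.trans p1.symm)) (hval _ _ (b.trans p0.symm)) s),
        fun ⟨a, b⟩ => key _ _ (hfix h (hval _ _ (a.trans p0.symm)) (hval _ _ (b.trans p1.symm)) _)⟩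
  have hsym : ∀ i j, i ≠ j → ∀ s, LP j i s = LP i j (flip2 s) := by
    intro i j hij s
    rcases hgp i j hij with h | h
    · rw [← ((wd (gp i j) j i hij.symm s).2 h), ((wd (gp i j) i j hij (flip2 s)).1 h)]
    · rw [← ((wd (gp i j) j i hij.symm s).1 h), ← ((wd (gp i j) i j hij (flip2 s)).2 h), flip2_flip2]
  have hequi : ∀ (g : alternatingGroup (Fin n)) i j, i ≠ j → ∀ s,
      φ g * LP i j s * (φ g)⁻¹ = LP (g.1 i) (g.1 j) s := by
    intro g i j hij s
    have hne : g.1 i ≠ g.1 j := g.1.injective.ne hij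
    rcases hgp i j hij with ⟨a, b⟩ | ⟨a, b⟩
    · rw [← ((wd (gp i j) i j hij s).1 ⟨a, b⟩),
        ← ((wd (g * gp i j) _ _ hne s).1 ⟨by simp [a], by simp [b]⟩), map_mul]
      group
    · rw [← ((wd (gp i j) i j hij s).2 ⟨a, b⟩),
        ← ((wd (g * gp i j) _ _ hne s).2 ⟨by simp [a], by simp [b]⟩), map_mul]
      group
  have hdisj : ∀ i j k l : Fin n, i ≠ j → k ≠ l → i ≠ k → i ≠ l → j ≠ k → j ≠ l →
      ∀ s t, Commute (LP i j s) (LP k l t) := by
    intro i j k l hij hkl hik hil hjk hjl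
    have h4 : 4 ≤ n := by
      have hc : ({i, j, k, l} : Finset (Fin n)).card = 4 := by
        simp [hij, hkl, hik, hil, hjk, hjl]
      have := Finset.card_le_univ ({i, j, k, l} : Finset (Fin n))
      rw [hc, Fintype.card_fin] at this
      exact this
    let z3 : Fin n := ⟨3, by omega⟩
    have h03 : z0 ≠ z3 := by simp [z0, z3]
    have h13 : z1 ≠ z3 := by simp [z1, z3]
    have h23 : z2 ≠ z3 := by simp [z2, z3]
    have hb0 : ∀ s t, Commute (LP z0 z1 s) (LP z2 z3 t) := by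
      intro s t
      have hle : ∀ o ∈ G3, (⊤ : Subgroup SL(2, F)) ≤
          (Subgroup.centralizer {LP z2 z3 o}).comap (LP z0 z1) := by
        intro o ho
        rw [← hG3, Subgroup.closure_le]
        intro p hp
        rw [SetLike.mem_coe, Subgroup.mem_comap, Subgroup.mem_centralizer_singleton_iff]
        refine (hcom _ _ ?_).eq
        simp only [S, SD, dif_pos h4, Finset.mem_union]
        exact Or.inl (Or.inl (Or.inr (Finset.mem_image.mpr
          ⟨(p, o), Finset.mem_product.mpr ⟨hp, ho⟩, rfl⟩)))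
      have hle2 : (⊤ : Subgroup SL(2, F)) ≤
          (Subgroup.centralizer {LP z0 z1 s}).comap (LP z2 z3) := by
        rw [← hG3, Subgroup.closure_le]
        intro o ho
        rw [SetLike.mem_coe, Subgroup.mem_comap, Subgroup.mem_centralizer_singleton_iff]
        exact (Subgroup.mem_centralizer_singleton_iff.mp (hle o ho (Subgroup.mem_top s))).symm
      exact (Subgroup.mem_centralizer_singleton_iff.mp (hle2 (Subgroup.mem_top t))).symm
    obtain ⟨g, h | h⟩ := exists_alt_map (m := 2) ![z0, z1, z2, z3] ![i, j, k, l]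
      (by intro a b; fin_cases a <;> fin_cases b <;>
            simp [h01, h01.symm, h02, h02.symm, h03, h03.symm, h12, h12.symm, h13, h13.symm, h23,
              h23.symm])
      (by intro a b; fin_cases a <;> fin_cases b <;>
            simp [hij, hij.symm, hik, hik.symm, hil, hil.symm, hjk, hjk.symm, hjl, hjl.symm, hkl,
              hkl.symm])
    · intro s t
      have := (hb0 s t).map (MulAut.conj (φ g)).toMonoidHom
      simp only [MulEquiv.coe_toMonoidHom, MulAut.conj_apply] at this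
      rw [hequi g _ _ h01, hequi g _ _ h23] at this
      have e0 := h 0; have e1 := h 1; have e2 := h 2; have e3 := h 3
      simp at e0 e1 e2 e3
      rwa [e0, e1, e2, e3] at this
    · intro s t
      have := (hb0 (flip2 s) t).map (MulAut.conj (φ g)).toMonoidHom
      simp only [MulEquiv.coe_toMonoidHom, MulAut.conj_apply] at this
      rw [hequi g _ _ h01, hequi g _ _ h23] at this
      have e0 := h 0; have e1 := h 1; have e2 := h 2; have e3 := h 3
      simp [swap_apply_of_ne_of_ne] at e0 e1 e2 e3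
      rw [e0, e1, e2, e3, hsym i j hij, flip2_flip2] at this
      exact this
  have hmove : ∀ (g : alternatingGroup (Fin n)) i j, i ≠ j → ∀ a : F,
      φ g * rootEl LP i j a * (φ g)⁻¹ = rootEl LP (g.1 i) (g.1 j) a ∧
      φ g * torEl LP ν i j * (φ g)⁻¹ = torEl LP ν (g.1 i) (g.1 j) := fun g i j h a =>
    ⟨hequi g i j h _, hequi g i j h _⟩
  have hX : ∀ i j a, q (XC i j a) = rootEl LP i j a := fun i j a => rfl
  have hH : ∀ i j, q (HC i j) = torEl LP ν i j := fun i j => rfl
  have hRrel : ∀ t ∈ R, ∀ y ∈ RT t, q y = 1 := fun t ht y hy => hrel y (by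
    simp only [S, Finset.mem_union, Finset.mem_biUnion]
    exact Or.inr ⟨t, ht, hy⟩)
  have hRcom : ∀ t ∈ R, ∀ x y, com x y ∈ RT t → Commute (q x) (q y) := fun t ht x y hy =>
    hcom _ _ (by simp only [S, Finset.mem_union, Finset.mem_biUnion]; exact Or.inr ⟨t, ht, hy⟩)
  have hact : ∀ i j k, i ≠ j → i ≠ k → j ≠ k →
      Commute (torEl LP ν j k) (torEl LP ν i j) ∧ Commute (torEl LP ν i k) (torEl LP ν i j) ∧
      torEl LP ν j k * rootEl LP i j 1 * (torEl LP ν j k)⁻¹ = rootEl LP i j ((ν⁻¹ : Fˣ) : F) ∧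
      torEl LP ν i k * rootEl LP i j 1 * (torEl LP ν i k)⁻¹ = rootEl LP i j (ν : F) := by
    intro i j k hij hik hjk
    obtain ⟨g, ⟨a, b, c⟩, ht, rfl, rfl, rfl⟩ := hR i j k hij hik hjk
    obtain ⟨hab, hac, hbc⟩ := hRd _ ht
    simp only at hab hac hbc
    let Ψ := (MulAut.conj (φ g)).toMonoidHom
    have mX : ∀ x y, x ≠ y → ∀ r : F, Ψ (rootEl LP x y r) = rootEl LP (g.1 x) (g.1 y) r :=
      fun x y h r => (hmove g x y h r).1
    have mH : ∀ x y, x ≠ y → Ψ (torEl LP ν x y) = torEl LP ν (g.1 x) (g.1 y) :=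
      fun x y h => (hmove g x y h 0).2
    refine ⟨?_, ?_, ?_, ?_⟩
    · have := (hRcom _ ht (HC b c) (HC a b) (by simp [RT])).map Ψ
      rwa [hH, hH, mH b c hbc, mH a b hab] at this
    · have := (hRcom _ ht (HC a c) (HC a b) (by simp [RT])).map Ψ
      rwa [hH, hH, mH a c hac, mH a b hab] at this
    · have h1 := hRrel _ ht (HC b c * XC a b 1 * (HC b c)⁻¹ * (XC a b ((ν⁻¹ : Fˣ) : F))⁻¹)
        (by simp [RT])
      rw [map_mul, map_mul, map_mul, map_inv, map_inv, mul_inv_eq_one, hH, hX, hX] at h1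
      have := congrArg Ψ h1
      rwa [map_mul, map_mul, map_inv, mH b c hbc, mX a b hab, mX a b hab] at this
    · have h1 := hRrel _ ht (HC a c * XC a b 1 * (HC a c)⁻¹ * (XC a b (ν : F))⁻¹)
        (by simp [RT])
      rw [map_mul, map_mul, map_mul, map_inv, map_inv, mul_inv_eq_one, hH, hX, hX] at h1
      have := congrArg Ψ h1
      rwa [map_mul, map_mul, map_inv, mH a c hac, mX a b hab, mX a b hab] at this
  have hbase : ∀ i j k, i ≠ j → i ≠ k → j ≠ k → ∀ γ ∈ Γ,
      ⁅rootEl LP i j ((ν : F) ^ γ), rootEl LP j k 1⁆ = rootEl LP i k ((ν : F) ^ γ) ∧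
      Commute (rootEl LP i j ((ν : F) ^ γ)) (rootEl LP i k 1) ∧
      Commute (rootEl LP i j ((ν : F) ^ γ)) (rootEl LP k j 1) := by
    intro i j k hij hik hjk γ hγ
    obtain ⟨g, ⟨a, b, c⟩, ht, rfl, rfl, rfl⟩ := hR i j k hij hik hjk
    obtain ⟨hab, hac, hbc⟩ := hRd _ ht
    simp only at hab hac hbc
    let Ψ := (MulAut.conj (φ g)).toMonoidHom
    have mX : ∀ x y, x ≠ y → ∀ r : F, Ψ (rootEl LP x y r) = rootEl LP (g.1 x) (g.1 y) r :=
      fun x y h r => (hmove g x y h r).1
    refine ⟨?_, ?_, ?_⟩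
    · have h1 := hRrel _ ht (com (XC a b ((ν : F) ^ γ)) (XC b c 1) * (XC a c ((ν : F) ^ γ))⁻¹) (by
        simp only [RT, Finset.mem_union, Finset.mem_biUnion]
        exact Or.inr ⟨γ, hγ, by simp⟩)
      rw [map_mul] at h1
      erw [map_inv] at h1
      rw [show ∀ x y : C, q (com x y) = q x * q y * (q x)⁻¹ * (q y)⁻¹ from fun x y => by
        show q (x * y * x⁻¹ * y⁻¹) = _
        rw [map_mul, map_mul, map_mul, map_inv, map_inv]] at h1
      rw [mul_inv_eq_one, ← commutatorElement_def, hX, hX, hX] at h1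
      have := congrArg Ψ h1
      rwa [map_commutatorElement, mX a b hab, mX b c hbc, mX a c hac] at this
    · have := (hRcom _ ht (XC a b ((ν : F) ^ γ)) (XC a c 1) (by
        simp only [RT, Finset.mem_union, Finset.mem_biUnion]
        exact Or.inr ⟨γ, hγ, by simp⟩)).map Ψ
      rwa [hX, hX, mX a b hab, mX a c hac] at this
    · have := (hRcom _ ht (XC a b ((ν : F) ^ γ)) (XC c b 1) (by
        simp only [RT, Finset.mem_union, Finset.mem_biUnion]
        exact Or.inr ⟨γ, hγ, by simp⟩)).map Ψ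
      rwa [hX, hX, mX a b hab, mX c b hbc.symm] at this
  obtain ⟨hcomm, hstein⟩ := steinberg_of_data hn hν Γ hΓ0 hΓ3 hsym hdisj hact hbase
  obtain ⟨f, hf⟩ := SteinbergSL.exists_hom (K := F) hn (rootEl LP)
    (fun i j _ a b => rootEl_add i j a b) hcomm hstein
  have hfX : ∀ i j, i ≠ j → ∀ a, rootEl LP i j a ∈ f.range := fun i j h a => ⟨_, hf i j h a⟩
  have hfL : ∀ i j, i ≠ j → ∀ s, LP i j s ∈ f.range := by
    intro i j hij s
    have : (⊤ : Subgroup SL(2, F)) ≤ f.range.comap (LP i j) := by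
      refine (Classical.sl_eq_top_of_transvection _ fun a b hab r => ?_).ge
      rw [Subgroup.mem_comap, ← tx_eq hab]
      fin_cases a <;> fin_cases b
      · exact absurd rfl hab
      · exact hfX i j hij r
      · show LP i j (tx (1 : Fin 2) 0 r) ∈ f.range
        rw [← flip2_tx01, ← hsym i j hij]
        exact hfX j i hij.symm r
      · exact absurd rfl hab
    exact this (Subgroup.mem_top s)
  have hψ : ∀ s, ψ s ∈ f.range := by
    intro s
    have := (wd 1 z0 z1 h01 s).1 ⟨rfl, rfl⟩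
    simp only [map_one, one_mul, inv_one, mul_one] at this
    exact this ▸ hfL z0 z1 h01 s
  have hinv : ∀ g z, z ∈ f.range → φ g * z * (φ g)⁻¹ ∈ f.range := by
    intro g z hz
    obtain ⟨x, rfl⟩ := hz
    have : (⊤ : Subgroup (Matrix.SpecialLinearGroup (Fin n) F)) ≤
        (f.range.comap (MulAut.conj (φ g)).toMonoidHom).comap f := by
      refine (Classical.sl_eq_top_of_transvection _ fun a b hab r => ?_).ge
      simp only [Subgroup.mem_comap, MulEquiv.coe_toMonoidHom, MulAut.conj_apply]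
      rw [hf a b hab r, (hmove g a b hab r).1]
      exact hfX _ _ (g.1.injective.ne hab) _
    exact this (Subgroup.mem_top x)
  have hφ : ∀ g, φ g ∈ f.range := by
    have hnorm : (f.range.comap φ).Normal := ⟨fun x hx g => by
      rw [Subgroup.mem_comap, map_mul, map_mul, map_inv]
      exact hinv g _ hx⟩
    have hc : cycA z0 z1 z2 h01 h02 ∈ f.range.comap φ := by
      have h1 := hrel (ι (cycA z0 z1 z2 h01 h02) * w⁻¹) (by simp [S])
      rw [map_mul, map_inv, mul_inv_eq_one] at h1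
      rw [Subgroup.mem_comap]
      show q (ι _) ∈ f.range
      rw [h1]
      have : GX ≤ f.range.comap q := by
        rw [Subgroup.closure_le]
        rintro _ ⟨⟨i, j, a⟩, rfl⟩
        by_cases hij : i = j
        · subst hij
          show q (XC i i a) ∈ f.range
          show LP i i (tx (0 : Fin 2) 1 a) ∈ f.range
          rw [hLP]
          exact hinv _ _ (hψ _)
        · exact hfX i j hij a
      exact this hwG
    have htop : f.range.comap φ = ⊤ := by
      refine closure_cycA_eq_top h01 _ fun x hx0 hx1 => ?_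
      obtain ⟨g, h | h⟩ := exists_alt_map (m := 1) ![z0, z1, z2] ![z0, z1, x]
        (by intro a b; fin_cases a <;> fin_cases b <;>
              simp [h01, h01.symm, h02, h02.symm, h12, h12.symm])
        (by intro a b; fin_cases a <;> fin_cases b <;>
              simp [h01, h01.symm, hx0, hx0.symm, hx1, hx1.symm])
      · have e : g * cycA z0 z1 z2 h01 h02 * g⁻¹ = cycA z0 z1 x h01 hx0.symm := by
          apply Subtype.ext
          show g.1 * cyc z0 z1 z2 * g.1⁻¹ = cyc z0 z1 x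
          rw [conj_cyc]
          have e0 := h 0; have e1 := h 1; have e2 := h 2
          simp at e0 e1 e2
          rw [e0, e1, e2]
        exact e ▸ hnorm.conj_mem _ hc g
      · have e : g * (cycA z0 z1 z2 h01 h02)⁻¹ * g⁻¹ = cycA z0 z1 x h01 hx0.symm := by
          apply Subtype.ext
          show g.1 * (cyc z0 z1 z2)⁻¹ * g.1⁻¹ = cyc z0 z1 x
          rw [cyc_inv h01 h02 h12, conj_cyc]
          have e0 := h 0; have e1 := h 1; have e2 := h 2
          simp [swap_apply_of_ne_of_ne] at e0 e1 e2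
          rw [e0, e1, e2]
        exact e ▸ hnorm.conj_mem _ (inv_mem hc) g
    exact fun g => htop.ge (Subgroup.mem_top g)
  have hfsurj : ∀ z, z ∈ f.range := by
    intro z
    obtain ⟨z, rfl⟩ := QuotientGroup.mk'_surjective N z
    induction z using Monoid.Coprod.induction_on with
    | inl g => exact hφ g
    | inr s => exact hψ s
    | mul p p' hp hp' => rw [map_mul]; exact mul_mem hp hp'
  let Φ' : C ⧸ N →* Matrix.SpecialLinearGroup (Fin n) F :=
    QuotientGroup.lift N Φ (Subgroup.normalClosure_le_normal fun x hx => hS x hx)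
  have hid : Φ'.comp f = MonoidHom.id _ := by
    refine CurtisTitsA.hom_extN fun i j hij r => ?_
    rw [MonoidHom.comp_apply, tx_eq hij, hf i j hij r, ← hX, MonoidHom.id_apply, ← tx_eq hij]
    exact hΦX i j hij r
  obtain ⟨x, hx⟩ := hfsurj (q c)
  have hx1 : Φ' (f x) = x := DFunLike.congr_fun hid x
  rw [hx, show Φ' (q c) = Φ c from rfl, hc] at hx1
  rw [← hx1, map_one] at hx
  exact (QuotientGroup.eq_one_iff c).mp hx.symm

end Cfsg.Agent.ShortPres
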