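import Mathlib

/-!
# Groups with a bounded number of defining relations

`HasPres G r`: the group `G` has a finite presentation with at most `r` relations (any number of
generators).
-/

set_option autoImplicit false

namespace Cfsg.Agent.ShortPres

universe u v

/-- A finite presentation with at most `r` relations. -/
def HasPres (G : Type u) [Group G] (r : ℕ) : Prop :=
  ∃ (k : ℕ) (f : FreeGroup (Fin k) →* G), Function.Surjective f ∧
    ∃ s : Finset (FreeGroup (Fin k)), s.card ≤ r ∧ f.ker = Subgroup.normalClosure (s : Set _)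

theorem HasPres.mono {G : Type u} [Group G] {r r' : ℕ} (h : HasPres G r) (hr : r ≤ r') :
    HasPres G r' := by
  obtain ⟨k, f, hf, s, hs, hker⟩ := h
  exact ⟨k, f, hf, s, hs.trans hr, hker⟩

theorem HasPres.congr {G : Type u} [Group G] {G' : Type v} [Group G'] {r : ℕ} (h : HasPres G r)
    (e : G ≃* G') : HasPres G' r := by
  obtain ⟨k, f, hf, s, hs, hker⟩ := h
  refine ⟨k, e.toMonoidHom.comp f, e.surjective.comp hf, s, hs, ?_⟩
  rw [← hker]
  ext x
  simp [MonoidHom.mem_ker]

/-- The kernel criterion in terms of relations. -/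
theorem ker_eq_normalClosure {C : Type u} [Group C] {T : Type v} [Group T] (Φ : C →* T) (S : Set C)
    (hS : ∀ x ∈ S, Φ x = 1) (h : ∀ x, Φ x = 1 → x ∈ Subgroup.normalClosure S) :
    Φ.ker = Subgroup.normalClosure S :=
  le_antisymm (fun x hx => h x hx) (Subgroup.normalClosure_le_normal fun x hx => hS x hx)

/-- A bijection criterion: relations cut out a group no larger than the target. -/
theorem mem_normalClosure_of_card_le {C : Type u} [Group C] {T : Type v} [Group T] [Finite T]
    (Φ : C →* T) (hΦ : Function.Surjective Φ) (S : Set C) (hS : ∀ x ∈ S, Φ x = 1)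
    (hfin : Finite (C ⧸ Subgroup.normalClosure S))
    (hcard : Nat.card (C ⧸ Subgroup.normalClosure S) ≤ Nat.card T) (x : C) (hx : Φ x = 1) :
    x ∈ Subgroup.normalClosure S := by
  let ψ : C ⧸ Subgroup.normalClosure S →* T :=
    QuotientGroup.lift _ Φ (Subgroup.normalClosure_le_normal fun y hy => hS y hy)
  have hψ : Function.Surjective ψ := fun t => by
    obtain ⟨c, rfl⟩ := hΦ t
    exact ⟨(c : C ⧸ Subgroup.normalClosure S), rfl⟩
  have hb := Function.Surjective.bijective_of_nat_card_le hψ hcard
  exact (QuotientGroup.eq_one_iff x).mp (hb.1 (show ψ x = ψ 1 by rw [map_one]; exact hx))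

theorem hasPres_free (k : ℕ) : HasPres (FreeGroup (Fin k)) 0 := by
  refine ⟨k, MonoidHom.id _, fun x => ⟨x, rfl⟩, ∅, le_rfl, ?_⟩
  rw [Finset.coe_empty, Subgroup.normalClosure_empty]
  ext x
  simp [MonoidHom.mem_ker, Subgroup.mem_bot]

/-- From a presented group. -/
theorem hasPres_of_presented {T : Type u} [Group T] {k r : ℕ} (rels : Finset (FreeGroup (Fin k)))
    (hr : rels.card ≤ r)
    (h : Nonempty (PresentedGroup (↑rels : Set (FreeGroup (Fin k))) ≃* T)) : HasPres T r := by
  obtain ⟨e⟩ := h
  refine ⟨k, e.toMonoidHom.comp (PresentedGroup.mk _),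
    e.surjective.comp (PresentedGroup.mk_surjective _), rels, hr, ?_⟩
  ext x
  simp only [MonoidHom.mem_ker, MonoidHom.coe_comp, MulEquiv.coe_toMonoidHom, Function.comp_apply,
    EmbeddingLike.map_eq_one_iff]
  exact PresentedGroup.mk_eq_one_iff

/-- Adding relations. -/
theorem HasPres.of_universal {C : Type u} [Group C] {T : Type v} [Group T] {r : ℕ}
    (hC : HasPres C r) (Φ : C →* T) (hΦ : Function.Surjective Φ) (S : Finset C)
    (hS : ∀ x ∈ S, Φ x = 1) (h : ∀ x, Φ x = 1 → x ∈ Subgroup.normalClosure (S : Set C)) :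
    HasPres T (r + S.card) := by
  classical
  obtain ⟨k, f, hf, s, hs, hker⟩ := hC
  let S' : Finset (FreeGroup (Fin k)) := S.image (Function.surjInv hf)
  refine ⟨k, Φ.comp f, hΦ.comp hf, s ∪ S',
    (Finset.card_union_le _ _).trans (Nat.add_le_add hs Finset.card_image_le), ?_⟩
  have hsf : ∀ x ∈ s, f x = 1 := fun x hx => by
    rw [← MonoidHom.mem_ker, hker]
    exact Subgroup.subset_normalClosure hx
  refine ker_eq_normalClosure _ _ (fun x hx => ?_) fun x hx => ?_
  · rw [Finset.coe_union] at hx
    rcases hx with hx | hx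
    · simp [hsf x hx]
    · obtain ⟨c, hc, rfl⟩ := Finset.mem_image.mp hx
      simp only [MonoidHom.coe_comp, Function.comp_apply, Function.surjInv_eq hf]
      exact hS c hc
  · set N := Subgroup.normalClosure (↑(s ∪ S') : Set (FreeGroup (Fin k))) with hN
    have hfN : f.ker ≤ N := by
      rw [hker]
      exact Subgroup.normalClosure_mono (by rw [Finset.coe_union]; exact Set.subset_union_left)
    have : (N.map f).Normal := Subgroup.Normal.map inferInstance _ hf
    have hle : Subgroup.normalClosure (S : Set C) ≤ N.map f :=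
      Subgroup.normalClosure_le_normal fun c hc =>
        ⟨Function.surjInv hf c, Subgroup.subset_normalClosure (by
          rw [Finset.coe_union]; exact Or.inr (Finset.mem_image_of_mem _ hc)),
          Function.surjInv_eq hf c⟩
    obtain ⟨y, hy, e⟩ := hle (h (f x) hx)
    have : x * y⁻¹ ∈ N := hfN (by rw [MonoidHom.mem_ker, map_mul, map_inv, e, mul_inv_cancel])
    simpa using N.mul_mem this hy

/-- Free products. -/
theorem HasPres.coprod {G : Type u} [Group G] {H : Type v} [Group H] {r r' : ℕ}
    (hG : HasPres G r) (hH : HasPres H r') : HasPres (Monoid.Coprod G H) (r + r') := by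
  classical
  obtain ⟨k, f, hf, s, hs, hker⟩ := hG
  obtain ⟨l, g, hg, t, ht, hker'⟩ := hH
  let i1 : FreeGroup (Fin k) →* FreeGroup (Fin (k + l)) := FreeGroup.map (Fin.castAdd l)
  let i2 : FreeGroup (Fin l) →* FreeGroup (Fin (k + l)) := FreeGroup.map (Fin.natAdd k)
  let F : FreeGroup (Fin (k + l)) →* Monoid.Coprod G H :=
    FreeGroup.lift (Fin.addCases (fun i => Monoid.Coprod.inl (f (FreeGroup.of i)))
      (fun i => Monoid.Coprod.inr (g (FreeGroup.of i))))
  have h1 : F.comp i1 = Monoid.Coprod.inl.comp f := by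
    apply FreeGroup.ext_hom; intro i; simp [F, i1]
  have h2 : F.comp i2 = Monoid.Coprod.inr.comp g := by
    apply FreeGroup.ext_hom; intro i; simp [F, i2]
  have hFs : Function.Surjective F := by
    intro x
    induction x using Monoid.Coprod.induction_on with
    | inl a =>
      obtain ⟨z, rfl⟩ := hf a
      exact ⟨i1 z, DFunLike.congr_fun h1 z⟩
    | inr b =>
      obtain ⟨z, rfl⟩ := hg b
      exact ⟨i2 z, DFunLike.congr_fun h2 z⟩
    | mul a b ha hb =>
      obtain ⟨za, rfl⟩ := ha
      obtain ⟨zb, rfl⟩ := hb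
      exact ⟨za * zb, map_mul _ _ _⟩
  refine ⟨k + l, F, hFs, s.image i1 ∪ t.image i2,
    (Finset.card_union_le _ _).trans
      (Nat.add_le_add (Finset.card_image_le.trans hs) (Finset.card_image_le.trans ht)), ?_⟩
  refine ker_eq_normalClosure _ _ (fun x hx => ?_) fun x hx => ?_
  · rw [Finset.coe_union] at hx
    rcases hx with hx | hx
    · obtain ⟨c, hc, rfl⟩ := Finset.mem_image.mp hx
      rw [show F (i1 c) = _ from DFunLike.congr_fun h1 c]
      have : f c = 1 := by rw [← MonoidHom.mem_ker, hker]; exact Subgroup.subset_normalClosure hc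
      simp [this]
    · obtain ⟨c, hc, rfl⟩ := Finset.mem_image.mp hx
      rw [show F (i2 c) = _ from DFunLike.congr_fun h2 c]
      have : g c = 1 := by rw [← MonoidHom.mem_ker, hker']; exact Subgroup.subset_normalClosure hc
      simp [this]
  · set N := Subgroup.normalClosure (↑(s.image i1 ∪ t.image i2) : Set (FreeGroup (Fin (k + l))))
      with hN
    have hk1 : f.ker ≤ ((QuotientGroup.mk' N).comp i1).ker := by
      rw [hker]
      refine Subgroup.normalClosure_le_normal fun c hc => ?_
      exact (QuotientGroup.eq_one_iff _).mpr (Subgroup.subset_normalClosure (by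
        rw [Finset.coe_union]; exact Or.inl (Finset.mem_image_of_mem _ hc)))
    have hk2 : g.ker ≤ ((QuotientGroup.mk' N).comp i2).ker := by
      rw [hker']
      refine Subgroup.normalClosure_le_normal fun c hc => ?_
      exact (QuotientGroup.eq_one_iff _).mpr (Subgroup.subset_normalClosure (by
        rw [Finset.coe_union]; exact Or.inr (Finset.mem_image_of_mem _ hc)))
    let ψ1 := f.liftOfSurjective hf ⟨_, hk1⟩
    let ψ2 := g.liftOfSurjective hg ⟨_, hk2⟩
    have hψ : (Monoid.Coprod.lift ψ1 ψ2).comp F = QuotientGroup.mk' N := by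
      apply FreeGroup.ext_hom
      intro i
      refine Fin.addCases (fun i => ?_) (fun i => ?_) i
      · simp only [MonoidHom.comp_apply, F, FreeGroup.lift_apply_of, Fin.addCases_left,
          Monoid.Coprod.lift_apply_inl, ψ1, MonoidHom.liftOfRightInverse_comp_apply]
        simp [i1]
      · simp only [MonoidHom.comp_apply, F, FreeGroup.lift_apply_of, Fin.addCases_right,
          Monoid.Coprod.lift_apply_inr, ψ2, MonoidHom.liftOfRightInverse_comp_apply]
        simp [i2]
    have := DFunLike.congr_fun hψ x
    rw [MonoidHom.comp_apply, hx, map_one] at this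
    exact (QuotientGroup.eq_one_iff x).mp this.symm

/-- A free product with an infinite cyclic group. -/
theorem HasPres.coprodFree {G : Type u} [Group G] {r : ℕ} (hG : HasPres G r) (k : ℕ) :
    HasPres (Monoid.Coprod G (FreeGroup (Fin k))) r :=
  hG.coprod (hasPres_free k)

/-- Passing to two generators. -/
theorem HasPres.two_gen {T : Type u} [Group T] {r : ℕ} (hT : HasPres T r) {a b : T}
    (hab : Subgroup.closure ({a, b} : Set T) = ⊤) :
    ∃ rels : Finset (FreeGroup (Fin 2)), rels.card ≤ r + 2 ∧
      Nonempty (PresentedGroup (↑rels : Set (FreeGroup (Fin 2))) ≃* T) := by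
  classical
  obtain ⟨k, f, hf, s, hs, hker⟩ := hT
  let ρ : FreeGroup (Fin 2) →* T := FreeGroup.lift ![a, b]
  have hρ : Function.Surjective ρ := by
    rw [← MonoidHom.range_eq_top, eq_top_iff, ← hab, Subgroup.closure_le]
    rintro x (rfl | rfl)
    · exact ⟨FreeGroup.of 0, by simp [ρ]⟩
    · exact ⟨FreeGroup.of 1, by simp [ρ]⟩
  let θ : FreeGroup (Fin k) →* FreeGroup (Fin 2) :=
    FreeGroup.lift fun i => Function.surjInv hρ (f (FreeGroup.of i))
  have hθ : ρ.comp θ = f := by
    apply FreeGroup.ext_hom; intro i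
    simp [θ, Function.surjInv_eq hρ]
  let R : Finset (FreeGroup (Fin 2)) := s.image θ ∪
    {FreeGroup.of 0 * (θ (Function.surjInv hf a))⁻¹,
      FreeGroup.of 1 * (θ (Function.surjInv hf b))⁻¹}
  have hRc : R.card ≤ r + 2 :=
    (Finset.card_union_le _ _).trans (Nat.add_le_add (Finset.card_image_le.trans hs) Finset.card_le_two)
  have hρθ : ∀ x, ρ (θ x) = f x := fun x => DFunLike.congr_fun hθ x
  have hρ0 : ρ (FreeGroup.of 0) = a := by simp [ρ]
  have hρ1 : ρ (FreeGroup.of 1) = b := by simp [ρ]
  have hR : ρ.ker = Subgroup.normalClosure (↑R : Set (FreeGroup (Fin 2))) := by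
    refine ker_eq_normalClosure _ _ (fun x hx => ?_) fun x hx => ?_
    · simp only [R, Finset.coe_union, Finset.coe_image, Finset.coe_insert, Finset.coe_singleton,
        Set.mem_union, Set.mem_image, Set.mem_insert_iff, Set.mem_singleton_iff] at hx
      rcases hx with ⟨c, hc, rfl⟩ | rfl | rfl
      · rw [hρθ, ← MonoidHom.mem_ker, hker]
        exact Subgroup.subset_normalClosure hc
      · rw [map_mul, map_inv, hρθ, Function.surjInv_eq hf, hρ0, mul_inv_cancel]
      · rw [map_mul, map_inv, hρθ, Function.surjInv_eq hf, hρ1, mul_inv_cancel]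
    · set N := Subgroup.normalClosure (↑R : Set (FreeGroup (Fin 2)))
      have hk : f.ker ≤ ((QuotientGroup.mk' N).comp θ).ker := by
        rw [hker]
        refine Subgroup.normalClosure_le_normal fun c hc => ?_
        exact (QuotientGroup.eq_one_iff _).mpr (Subgroup.subset_normalClosure (by
          simp only [R, Finset.coe_union]; exact Or.inl (Finset.mem_image_of_mem _ hc)))
      let ψ := f.liftOfSurjective hf ⟨_, hk⟩
      have hψf : ∀ z, ψ (f z) = QuotientGroup.mk' N (θ z) := fun z => by
        simp [ψ, MonoidHom.liftOfRightInverse_comp_apply]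
      have hgen : ∀ (i : Fin 2) (c : T), FreeGroup.of i * (θ (Function.surjInv hf c))⁻¹ ∈ R →
          ψ c = QuotientGroup.mk' N (FreeGroup.of i) := by
        intro i c hm
        have h1 := hψf (Function.surjInv hf c)
        rw [Function.surjInv_eq hf] at h1
        have h2 : QuotientGroup.mk' N (FreeGroup.of i * (θ (Function.surjInv hf c))⁻¹) = 1 :=
          (QuotientGroup.eq_one_iff _).mpr (Subgroup.subset_normalClosure hm)
        rw [map_mul, map_inv, mul_inv_eq_one] at h2
        rw [h1, h2]
      have hψ : ψ.comp ρ = QuotientGroup.mk' N := by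
        apply FreeGroup.ext_hom
        intro i
        fin_cases i
        · simp only [MonoidHom.comp_apply]
          change ψ (ρ (FreeGroup.of 0)) = _
          rw [hρ0, hgen 0 a (Finset.mem_union_right _ (Finset.mem_insert_self _ _))]
          rfl
        · simp only [MonoidHom.comp_apply]
          change ψ (ρ (FreeGroup.of 1)) = _
          rw [hρ1, hgen 1 b (Finset.mem_union_right _
            (Finset.mem_insert_of_mem (Finset.mem_singleton_self _)))]
          rfl
      have := DFunLike.congr_fun hψ x
      rw [MonoidHom.comp_apply, hx, map_one] at this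
      exact (QuotientGroup.eq_one_iff x).mp this.symm
  refine ⟨R, hRc, ⟨?_⟩⟩
  exact (QuotientGroup.quotientMulEquivOfEq hR.symm).trans
    (QuotientGroup.quotientKerEquivOfSurjective ρ hρ)

end Cfsg.Agent.ShortPres
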