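import Cfsg.Agent.ShortPres.Carmichael

/-!
# Alternating groups: two generators, the Carmichael criterion, small presentations
-/

set_option autoImplicit false

namespace Cfsg.Agent.ShortPres

open Equiv Equiv.Perm Cfsg.Agent.AltMult

theorem finite_closure_range {K : Type*} [Group K] {X : Type*} [Fintype X] (E : X → K)
    (h3 : ∀ x, E x ^ 3 = 1) (h2 : ∀ x y, x ≠ y → (E x * E y) ^ 2 = 1) :
    Finite (Subgroup.closure (Set.range E)) ∧
      2 * Nat.card (Subgroup.closure (Set.range E)) ≤ (Fintype.card X + 2).factorial := by
  classical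
  let e := (Fintype.equivFin X).symm
  let f : ℕ → K := fun i => if h : i < Fintype.card X then E (e ⟨i, h⟩) else 1
  have him : f '' Set.Iio (Fintype.card X) = Set.range E := by
    ext z
    constructor
    · rintro ⟨i, hi, rfl⟩
      exact ⟨e ⟨i, hi⟩, by simp [f, show i < Fintype.card X from hi]⟩
    · rintro ⟨x, rfl⟩
      exact ⟨(e.symm x).val, (e.symm x).isLt, by simp [f]⟩
  rw [← him]
  refine finite_closure _ f (fun i hi => ?_) fun i j hi hj hij => ?_
  · simp only [f, hi, ↓reduceDIte]; exact h3 _
  · simp only [f, hi, hj, ↓reduceDIte]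
    exact h2 _ _ fun h => hij (congrArg Fin.val (e.injective h))

theorem sq_flip {K : Type*} [Group K] {a b : K} (h : (a * b) ^ 2 = 1) : (b * a) ^ 2 = 1 := by
  rw [show (b * a) ^ 2 = a⁻¹ * (a * b) ^ 2 * a by simp [pow_two, mul_assoc], h, mul_one, inv_mul_cancel]

variable {β : Type*} [Fintype β] [DecidableEq β]

/-- The points other than `u` and `v`. -/
abbrev Rest (u v : β) : Type _ := {x : β // x ≠ u ∧ x ≠ v}

/-- The three-cycle `(u v x)`. -/
def cycR {u v : β} (huv : u ≠ v) (x : Rest u v) : alternatingGroup β :=
  cycA u v x.1 huv x.2.1.symm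

theorem card_rest {u v : β} (huv : u ≠ v) : Fintype.card (Rest u v) + 2 = Fintype.card β := by
  have h : (Finset.univ.filter fun x : β => x ≠ u ∧ x ≠ v) = (Finset.univ : Finset β) \ {u, v} := by
    ext x; simp
  have h2 : ({u, v} : Finset β).card = 2 := Finset.card_pair huv
  have := Finset.card_le_univ ({u, v} : Finset β)
  rw [Fintype.card_subtype, h, Finset.card_sdiff_of_subset (Finset.subset_univ _), h2,
    Finset.card_univ]
  omega

theorem closure_cycR {u v : β} (huv : u ≠ v) :
    Subgroup.closure (Set.range (cycR (β := β) huv)) = ⊤ :=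
  closure_cycA_eq_top huv _ fun i hiu hiv => Subgroup.subset_closure ⟨⟨i, hiu, hiv⟩, rfl⟩

theorem cycR_pow_three {u v : β} (huv : u ≠ v) (x : Rest u v) : cycR huv x ^ 3 = 1 :=
  Subtype.ext (by simpa [cycR, cycA] using cyc_pow_three huv x.2.1.symm x.2.2.symm)

theorem cycR_sq {u v : β} (huv : u ≠ v) (x y : Rest u v) (hxy : x ≠ y) :
    (cycR huv x * cycR huv y) ^ 2 = 1 :=
  Subtype.ext (by
    simpa [cycR, cycA] using cyc_mul_cyc_sq huv x.2.1 x.2.2 y.2.1 y.2.2 (fun h => hxy (Subtype.ext h)))

theorem two_mul_card_alt [Nontrivial β] :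
    2 * Nat.card (alternatingGroup β) = (Fintype.card β).factorial := by
  rw [two_mul_nat_card_alternatingGroup, Nat.card_perm, Nat.card_eq_fintype_card]

/-- A group generated by Carmichael generators is no bigger than the alternating group. -/
theorem carmichael_criterion {P : Type*} [Group P] {u v : β} (huv : u ≠ v) (E : Rest u v → P)
    (h3 : ∀ x, E x ^ 3 = 1) (h2 : ∀ x y, x ≠ y → (E x * E y) ^ 2 = 1)
    (htop : Subgroup.closure (Set.range E) = ⊤) :
    Finite P ∧ Nat.card P ≤ Nat.card (alternatingGroup β) := by
  obtain ⟨hfin, hle⟩ := finite_closure_range E h3 h2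
  have : Nontrivial β := ⟨⟨u, v, huv⟩⟩
  rw [card_rest huv, ← two_mul_card_alt, htop] at hle
  rw [htop] at hfin
  exact ⟨Finite.of_equiv _ Subgroup.topEquiv.toEquiv,
    by rw [Nat.card_congr Subgroup.topEquiv.toEquiv] at hle; omega⟩

/-- Small alternating groups. -/
theorem alt_small_bound (m : ℕ) (hm : m ≤ 6) :
    HasPres (alternatingGroup (Fin (m + 2))) (if m ≤ 2 then 3 else 21) := by
  classical
  let u : Fin (m + 2) := 0
  let v : Fin (m + 2) := 1
  have huv : u ≠ v := by simp [u, v]
  have hc : Fintype.card (Rest u v) = m := by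
    have := card_rest huv
    simp at this ⊢
    omega
  let e : Fin m ≃ Rest u v := (finCongr hc.symm).trans (Fintype.equivFin _).symm
  let Φ : FreeGroup (Fin m) →* alternatingGroup (Fin (m + 2)) :=
    FreeGroup.lift fun i => cycR huv (e i)
  have hΦ : Function.Surjective Φ := by
    rw [← MonoidHom.range_eq_top, eq_top_iff, ← closure_cycR huv, Subgroup.closure_le]
    rintro _ ⟨x, rfl⟩
    exact ⟨FreeGroup.of (e.symm x), by simp [Φ]⟩
  let S : Finset (FreeGroup (Fin m)) := (Finset.univ.image fun i => FreeGroup.of i ^ 3) ∪
    ((Finset.univ.filter fun p : Fin m × Fin m => p.1 < p.2).image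
      fun p => (FreeGroup.of p.1 * FreeGroup.of p.2) ^ 2)
  have hS : S.card ≤ if m ≤ 2 then 3 else 21 := by
    refine (Finset.card_union_le _ _).trans
      ((Nat.add_le_add Finset.card_image_le Finset.card_image_le).trans ?_)
    interval_cases m <;> decide
  have := (hasPres_free m).of_universal Φ hΦ S (fun x hx => ?_) fun x hx => ?_
  · exact this.mono (by omega)
  · simp only [S, Finset.mem_union, Finset.mem_image, Finset.mem_univ, true_and,
      Finset.mem_filter] at hx
    rcases hx with ⟨i, rfl⟩ | ⟨⟨i, j⟩, hij, rfl⟩
    · simp [Φ, cycR_pow_three]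
    · have : e i ≠ e j := fun h => hij.ne (e.injective h)
      simpa [Φ] using cycR_sq huv _ _ this
  · set N := Subgroup.normalClosure (S : Set (FreeGroup (Fin m)))
    have hrel : ∀ y ∈ S, QuotientGroup.mk' N y = 1 := fun y hy =>
      (QuotientGroup.eq_one_iff _).mpr (Subgroup.subset_normalClosure hy)
    let E : Rest u v → FreeGroup (Fin m) ⧸ N := fun x => QuotientGroup.mk' N (FreeGroup.of (e.symm x))
    obtain ⟨hfin, hle⟩ := carmichael_criterion huv E (fun x => by
        rw [← map_pow]
        exact hrel _ (Finset.mem_union_left _ (Finset.mem_image_of_mem _ (Finset.mem_univ _))))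
      (fun x y hxy => by
        rcases lt_or_gt_of_ne (e.symm.injective.ne hxy) with h | h
        · rw [← map_mul, ← map_pow]
          exact hrel _ (Finset.mem_union_right _ (Finset.mem_image.mpr
            ⟨(e.symm x, e.symm y), by simp [h], rfl⟩))
        · refine sq_flip ?_
          rw [← map_mul, ← map_pow]
          exact hrel _ (Finset.mem_union_right _ (Finset.mem_image.mpr
            ⟨(e.symm y, e.symm x), by simp [h], rfl⟩)))
      (by
        rw [eq_top_iff, ← MonoidHom.range_eq_top.mpr (QuotientGroup.mk'_surjective N),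
          MonoidHom.range_eq_map, ← FreeGroup.closure_range_of, MonoidHom.map_closure]
        refine Subgroup.closure_mono ?_
        rintro _ ⟨_, ⟨i, rfl⟩, rfl⟩
        exact ⟨e i, by simp [E]⟩)
    exact mem_normalClosure_of_card_le Φ hΦ _ (fun y hy => by
      simp only [S, Finset.coe_union, Finset.coe_image, Set.mem_union, Set.mem_image,
        Finset.coe_univ, Set.mem_univ, true_and, Finset.coe_filter, Set.mem_setOf_eq,
        Finset.mem_univ] at hy
      rcases hy with ⟨i, rfl⟩ | ⟨⟨i, j⟩, hij, rfl⟩
      · simp [Φ, cycR_pow_three]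
      · have : e i ≠ e j := fun h => hij.ne (e.injective h)
        simpa [Φ] using cycR_sq huv _ _ this) hfin hle x hx

theorem alt_small (m : ℕ) (hm : m ≤ 6) : HasPres (alternatingGroup (Fin (m + 2))) 21 :=
  (alt_small_bound m hm).mono (by split <;> omega)

theorem alt_two_gen_fin (n : ℕ) :
    ∃ a b : alternatingGroup (Fin n), Subgroup.closure ({a, b} : Set _) = ⊤ := by
  rcases Nat.lt_or_ge n 3 with hn | hn
  · refine ⟨1, 1, ?_⟩
    have : Subsingleton (alternatingGroup (Fin n)) := by
      rw [← Finite.card_le_one_iff_subsingleton]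
      interval_cases n <;> simp [Nat.card_eq_fintype_card] <;> decide
    rw [eq_top_iff]
    intro x _
    rw [Subsingleton.elim x 1]
    exact one_mem _
  obtain ⟨m, rfl⟩ : ∃ m, n = m + 3 := ⟨n - 3, by omega⟩
  let pt : ℕ → Fin (m + 3) := fun i => ⟨min i (m + 2), by omega⟩
  have hv : ∀ i, i ≤ m + 2 → (pt i).val = i := fun i hi => by simp [pt, hi]
  have hne : ∀ i j, i ≤ m + 2 → j ≤ m + 2 → i ≠ j → pt i ≠ pt j := fun i j hi hj hij h => by
    have := congrArg Fin.val h
    rw [hv i hi, hv j hj] at this
    exact hij this
  let σ : Perm (Fin (m + 3)) :=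
    if Even m then finRotate (m + 3) else swap (pt 0) (pt 1) * finRotate (m + 3)
  have hσsign : sign σ = 1 := by
    by_cases he : Even m
    · simp only [σ, if_pos he, sign_finRotate]
      rw [Even.neg_one_pow (by simpa [Nat.even_add_one, parity_simps] using he)]
    · simp only [σ, if_neg he, map_mul, sign_finRotate, sign_swap (hne 0 1 (by omega) (by omega) (by omega))]
      rw [Odd.neg_one_pow (by simpa [parity_simps] using he)]
      decide
  have h012 : cyc (pt 0) (pt 1) (pt 2) ∈ alternatingGroup (Fin (m + 3)) :=
    mem_alternatingGroup.mpr (sign_cyc (hne 0 1 (by omega) (by omega) (by omega))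
      (hne 0 2 (by omega) (by omega) (by omega)))
  refine ⟨⟨_, h012⟩, ⟨σ, mem_alternatingGroup.mpr hσsign⟩, ?_⟩
  set K := Subgroup.closure ({⟨_, h012⟩, ⟨σ, mem_alternatingGroup.mpr hσsign⟩} :
    Set (alternatingGroup (Fin (m + 3))))
  let M := K.map (alternatingGroup (Fin (m + 3))).subtype
  have hc : cyc (pt 0) (pt 1) (pt 2) ∈ M :=
    ⟨⟨_, h012⟩, Subgroup.subset_closure (Set.mem_insert _ _), rfl⟩
  have hσ : σ ∈ M := ⟨⟨σ, mem_alternatingGroup.mpr hσsign⟩, Subgroup.subset_closure (Set.mem_insert_of_mem _ rfl), rfl⟩
  have hrot : ∀ i, i + 1 ≤ m + 2 → finRotate (m + 3) (pt i) = pt (i + 1) := by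
    intro i hi
    apply Fin.ext
    rw [finRotate_succ_apply, Fin.val_add_one, hv _ hi, hv i (by omega), if_neg]
    intro h
    have := congrArg Fin.val h
    rw [hv i (by omega)] at this
    simp at this
    omega
  have hσapp : ∀ i, 1 ≤ i → i + 1 ≤ m + 2 → σ (pt i) = pt (i + 1) := by
    intro i h1 hi
    by_cases he : Even m
    · simp only [σ, if_pos he, hrot i hi]
    · simp only [σ, if_neg he, Perm.mul_apply, hrot i hi]
      exact swap_apply_of_ne_of_ne (hne _ _ hi (by omega) (by omega)) (hne _ _ hi (by omega) (by omega))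
  have hcyc : ∀ i, 2 ≤ i → i ≤ m + 2 → cyc (pt 0) (pt 1) (pt i) ∈ M := by
    by_cases he : Even m
    · have hσ0 : σ (pt 0) = pt 1 := by simp only [σ, if_pos he, hrot 0 (by omega)]
      have hD : ∀ i, i + 2 ≤ m + 2 → cyc (pt i) (pt (i + 1)) (pt (i + 2)) ∈ M := by
        intro i
        induction i with
        | zero => intro; exact hc
        | succ i ih =>
          intro hi
          have e : σ (pt i) = pt (i + 1) := by
            rcases Nat.eq_zero_or_pos i with rfl | h
            · exact hσ0
            · exact hσapp i h (by omega)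
          have := mul_mem (mul_mem hσ (ih (by omega))) (inv_mem hσ)
          rw [conj_cyc, e, hσapp _ (by omega) (by omega), hσapp _ (by omega) (by omega)] at this
          exact this
      intro i h2 hi
      induction i, h2 using Nat.le_induction with
      | base => exact hc
      | succ i h2 ih =>
        rcases eq_or_lt_of_le h2 with rfl | h3
        · have hd := hne
          have e : cyc (pt 0) (pt 1) (pt 3) = cyc (pt 0) (pt 1) (pt 2) * (cyc (pt 1) (pt 2) (pt 3))⁻¹ := by
            rw [cyc_inv (hd 1 2 (by omega) (by omega) (by omega)) (hd 1 3 (by omega) (by omega) (by omega))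
              (hd 2 3 (by omega) (by omega) (by omega))]
            have n01 := hd 0 1 (by omega) (by omega) (by omega)
            have n02 := hd 0 2 (by omega) (by omega) (by omega)
            have n03 := hd 0 3 (by omega) (by omega) (by omega)
            have n12 := hd 1 2 (by omega) (by omega) (by omega)
            have n13 := hd 1 3 (by omega) (by omega) (by omega)
            have n23 := hd 2 3 (by omega) (by omega) (by omega)
            ext t
            by_cases t0 : t = pt 0
            · subst t0
              simp [cyc_apply_left n01 n13, cyc_apply_of_ne n02 n01 n03, cyc_apply_left n01 n12]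
            by_cases t1 : t = pt 1
            · subst t1
              simp [cyc_apply_mid, cyc_apply_of_ne n03.symm n13.symm n23.symm]
            by_cases t2 : t = pt 2
            · subst t2
              simp [cyc_apply_left n12.symm n13, cyc_apply_of_ne n02.symm n12.symm n23, cyc_apply_mid]
            by_cases t3 : t = pt 3
            · subst t3
              simp [cyc_apply_right n03 n13, cyc_apply_right n23 n13, cyc_apply_right n02 n12]
            simp [cyc_apply_of_ne t0 t1 t3, cyc_apply_of_ne t2 t1 t3, cyc_apply_of_ne t0 t1 t2]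
          rw [e]
          exact mul_mem hc (inv_mem (hD 1 (by omega)))
        · obtain ⟨j, rfl⟩ : ∃ j, i = j + 1 := ⟨i - 1, by omega⟩
          have ht := hD j (by omega)
          have := mul_mem (mul_mem ht (ih (by omega))) (inv_mem ht)
          rwa [conj_cyc, cyc_apply_of_ne (hne _ _ (by omega) (by omega) (by omega))
              (hne _ _ (by omega) (by omega) (by omega)) (hne _ _ (by omega) (by omega) (by omega)),
            cyc_apply_of_ne (hne _ _ (by omega) (by omega) (by omega))
              (hne _ _ (by omega) (by omega) (by omega)) (hne _ _ (by omega) (by omega) (by omega)),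
            cyc_apply_mid] at this
    · have hm1 : 1 ≤ m := Nat.pos_of_ne_zero fun h => he (h ▸ Even.zero)
      have hσ0 : σ (pt 0) = pt 0 := by
        simp only [σ, if_neg he, Perm.mul_apply, hrot 0 (by omega)]
        exact swap_apply_right _ _
      have hD : ∀ i, 1 ≤ i → i + 1 ≤ m + 2 → cyc (pt 0) (pt i) (pt (i + 1)) ∈ M := by
        intro i h1 hi
        induction i, h1 using Nat.le_induction with
        | base => exact hc
        | succ i h1 ih =>
          have := mul_mem (mul_mem hσ (ih (by omega))) (inv_mem hσ)
          rw [conj_cyc, hσ0, hσapp _ h1 (by omega), hσapp _ (by omega) (by omega)] at this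
          exact this
      intro i h2 hi
      induction i, h2 using Nat.le_induction with
      | base => exact hc
      | succ i h2 ih =>
        have hA := ih (by omega)
        have := mul_mem (mul_mem hA (hD i (by omega) hi)) (inv_mem hA)
        rw [conj_cyc, cyc_apply_left (hne _ _ (by omega) (by omega) (by omega))
            (hne _ _ (by omega) (by omega) (by omega)),
          cyc_apply_right (hne _ _ (by omega) (by omega) (by omega))
            (hne _ _ (by omega) (by omega) (by omega)),
          cyc_apply_of_ne (hne _ _ (by omega) (by omega) (by omega))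
            (hne _ _ (by omega) (by omega) (by omega)) (hne _ _ (by omega) (by omega) (by omega))] at this
        have := inv_mem this
        rwa [cyc_inv (hne _ _ (by omega) (by omega) (by omega))
          (hne _ _ (by omega) (by omega) (by omega)) (hne _ _ (by omega) (by omega) (by omega))] at this
  refine closure_cycA_eq_top (hne 0 1 (by omega) (by omega) (by omega)) _ fun i hi0 hi1 => ?_
  have e : pt i.val = i := Fin.ext (hv _ (by omega))
  have h2 : 2 ≤ i.val := by
    rcases i with ⟨i, hlt⟩
    simp only [ne_eq, Fin.ext_iff, hv 0 (by omega), hv 1 (by omega)] at hi0 hi1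
    simp only
    omega
  obtain ⟨g, hg, he⟩ := hcyc i.val h2 (by omega)
  rw [e] at he
  have hg' : g = cycA (pt 0) (pt 1) i (hne 0 1 (by omega) (by omega) (by omega)) hi0.symm :=
    Subtype.ext he
  exact hg' ▸ hg

theorem alt_two_gen (β : Type*) [Fintype β] [DecidableEq β] :
    ∃ a b : alternatingGroup β, Subgroup.closure ({a, b} : Set _) = ⊤ := by
  obtain ⟨a, b, h⟩ := alt_two_gen_fin (Fintype.card β)
  let e := (Fintype.equivFin β).symm.altCongrHom
  refine ⟨e a, e b, ?_⟩
  rw [show ({e a, e b} : Set _) = e.toMonoidHom '' {a, b} by simp [Set.image_pair],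
    ← MonoidHom.map_closure, h, ← MonoidHom.range_eq_map]
  exact MonoidHom.range_eq_top.mpr e.surjective

end Cfsg.Agent.ShortPres
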