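import Cfsg.Agent.ShortPres.AltBasic

/-!
# From a doubly transitive group to an alternating group two degrees higher
-/

set_option autoImplicit false

namespace Cfsg.Agent.ShortPres

open Equiv Equiv.Perm Cfsg.Agent.AltMult

universe u

variable {T : Type u} [Group T] {X : Type*} [Fintype X] [DecidableEq X] [MulAction T X]

/-- If `T` has `r` relations and acts doubly transitively by even permutations on `X`, then
`Alt(X + 2)` has `r + 5` relations. -/
theorem alt_step {r : ℕ} (hT : HasPres T r) (heven : ∀ t : T, sign (MulAction.toPermHom T X t) = 1)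
    (x0 x1 : X) (hx : x1 ≠ x0) (g1 g2 : T)
    (hstab : MulAction.stabilizer T x0 = Subgroup.closure {g1, g2})
    (htrans : ∀ x : X, ∃ t : T, t • x0 = x)
    (htwo : ∀ x : X, x ≠ x0 → ∃ t : T, t • x0 = x0 ∧ t • x1 = x)
    (u : T) (hu : Subgroup.normalClosure ({u} : Set T) = ⊤) :
    HasPres (alternatingGroup (X ⊕ Fin 2)) (r + 5) := by
  classical
  have hpair : ∀ x y : X, x ≠ y → ∃ t : T, t • x0 = x ∧ t • x1 = y := by
    intro x y hxy
    obtain ⟨s, hs⟩ := htrans x
    have hy : s⁻¹ • y ≠ x0 := fun h => hxy (by rw [← hs, ← h, smul_inv_smul])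
    obtain ⟨t, h1, h2⟩ := htwo _ hy
    exact ⟨s * t, by rw [mul_smul, h1, hs], by rw [mul_smul, h2, smul_inv_smul]⟩
  let a : X ⊕ Fin 2 := Sum.inr 0
  let b : X ⊕ Fin 2 := Sum.inr 1
  have hab : a ≠ b := by simp [a, b]
  have ha : ∀ x : X, (Sum.inl x : X ⊕ Fin 2) ≠ a := fun x => by simp [a]
  have hb : ∀ x : X, (Sum.inl x : X ⊕ Fin 2) ≠ b := fun x => by simp [b]
  let cy : X → alternatingGroup (X ⊕ Fin 2) := fun x => cycR hab ⟨Sum.inl x, ha x, hb x⟩
  let φ : T →* alternatingGroup (X ⊕ Fin 2) :=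
    { toFun := fun t => ⟨sumCongrHom X (Fin 2) (MulAction.toPermHom T X t, 1), by
        rw [mem_alternatingGroup]
        simpa [sumCongrHom, sign_sumCongr] using heven t⟩
      map_one' := Subtype.ext (by
        show sumCongrHom X (Fin 2) (MulAction.toPermHom T X 1, 1) = 1
        rw [map_one, ← Prod.one_eq_mk, map_one])
      map_mul' := fun s t => Subtype.ext (by
        show sumCongrHom X (Fin 2) (MulAction.toPermHom T X (s * t), 1) =
          sumCongrHom X (Fin 2) (MulAction.toPermHom T X s, 1) *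
            sumCongrHom X (Fin 2) (MulAction.toPermHom T X t, 1)
        rw [← map_mul, map_mul, Prod.mk_mul_mk, one_mul]) }
  have hφ : ∀ (t : T) (x : X), φ t * cy x * (φ t)⁻¹ = cy (t • x) := fun t x => by
    apply Subtype.ext
    simp only [cy, cycR, cycA, Subgroup.coe_mul, InvMemClass.coe_inv]
    rw [conj_cyc]
    simp [φ, a, b, sumCongrHom]
  let C := Monoid.Coprod T (FreeGroup (Fin 1))
  let e : C := Monoid.Coprod.inr (FreeGroup.of 0)
  let ι : T →* C := Monoid.Coprod.inl
  let Φ : C →* alternatingGroup (X ⊕ Fin 2) :=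
    Monoid.Coprod.lift φ (FreeGroup.lift fun _ => cy x0)
  have hΦe : Φ e = cy x0 :=
    (Monoid.Coprod.lift_apply_inr _ _ _).trans FreeGroup.lift_apply_of
  have hΦι : ∀ t, Φ (ι t) = φ t := fun t => Monoid.Coprod.lift_apply_inl _ _ _
  let G : Subgroup C := Subgroup.closure (Set.range fun t : T => ι t * e * (ι t)⁻¹)
  have hG : ∀ z, ∃ w ∈ G, Φ w = z := by
    have : (⊤ : Subgroup (alternatingGroup (X ⊕ Fin 2))) ≤ G.map Φ := by
      rw [← closure_cycR hab, Subgroup.closure_le]
      rintro _ ⟨⟨z, hz1, hz2⟩, rfl⟩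
      rcases z with x | i
      · obtain ⟨t, rfl⟩ := htrans x
        exact ⟨ι t * e * (ι t)⁻¹, Subgroup.subset_closure ⟨t, rfl⟩,
          by rw [map_mul, map_mul, map_inv, hΦe, hΦι, hφ]⟩
      · exfalso
        fin_cases i
        · exact hz1 rfl
        · exact hz2 rfl
    exact fun z => this (Subgroup.mem_top z)
  have hΦs : Function.Surjective Φ := fun z => let ⟨w, _, hw⟩ := hG z; ⟨w, hw⟩
  obtain ⟨w, hwG, hw⟩ := hG (φ u)
  obtain ⟨t1, ht1⟩ := htrans x1
  let S : Finset C := {e ^ 3, ι g1 * e * (ι g1)⁻¹ * e⁻¹, ι g2 * e * (ι g2)⁻¹ * e⁻¹,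
    (e * (ι t1 * e * (ι t1)⁻¹)) ^ 2, ι u * w⁻¹}
  have hScard : S.card ≤ 5 := Finset.card_le_five
  have hg : ∀ g ∈ ({g1, g2} : Set T), g • x0 = x0 := fun g hg =>
    MulAction.mem_stabilizer_iff.mp (hstab ▸ Subgroup.subset_closure hg)
  have hS : ∀ y ∈ S, Φ y = 1 := by
    intro y hy
    simp only [S, Finset.mem_insert, Finset.mem_singleton] at hy
    rcases hy with rfl | rfl | rfl | rfl | rfl
    · rw [map_pow, hΦe]; exact cycR_pow_three hab _
    · rw [map_mul, map_mul, map_mul, map_inv, map_inv, hΦι, hΦe, hφ, hg g1 (by simp), mul_inv_cancel]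
    · rw [map_mul, map_mul, map_mul, map_inv, map_inv, hΦι, hΦe, hφ, hg g2 (by simp), mul_inv_cancel]
    · rw [map_pow, map_mul, map_mul, map_mul, map_inv, hΦι, hΦe, hφ, ht1]
      exact cycR_sq hab _ _ fun h => hx (Sum.inl_injective (congrArg Subtype.val h)).symm
    · rw [map_mul, map_inv, hΦι, hw, mul_inv_cancel]
  refine ((hT.coprodFree 1).of_universal Φ hΦs S hS ?_).mono (Nat.add_le_add_left hScard r)
  intro c hc
  set N := Subgroup.normalClosure (S : Set C)
  let q : C →* C ⧸ N := QuotientGroup.mk' N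
  have hrel : ∀ y ∈ S, q y = 1 := fun y hy =>
    (QuotientGroup.eq_one_iff _).mpr (Subgroup.subset_normalClosure hy)
  choose tx htx using htrans
  let E : X → C ⧸ N := fun x => q (ι (tx x)) * q e * (q (ι (tx x)))⁻¹
  have hstabE : ∀ t : T, t • x0 = x0 → q (ι t) * q e * (q (ι t))⁻¹ = q e := by
    intro t ht
    have hle : MulAction.stabilizer T x0 ≤
        (Subgroup.centralizer {q e}).comap (q.comp ι) := by
      rw [hstab, Subgroup.closure_le]
      intro g hg
      rw [SetLike.mem_coe, Subgroup.mem_comap, Subgroup.mem_centralizer_singleton_iff]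
      have : q (ι g * e * (ι g)⁻¹ * e⁻¹) = 1 := by
        rcases hg with rfl | rfl
        · exact hrel _ (by simp [S])
        · exact hrel _ (by simp [S])
      simp only [map_mul, map_inv, mul_inv_eq_one] at this
      simpa [mul_inv_eq_iff_eq_mul] using this
    have := Subgroup.mem_centralizer_singleton_iff.mp
      (hle (MulAction.mem_stabilizer_iff.mpr ht))
    simp only [MonoidHom.comp_apply] at this
    rw [mul_inv_eq_iff_eq_mul]
    exact this
  have hE : ∀ (t : T) (x : X), t • x0 = x → q (ι t) * q e * (q (ι t))⁻¹ = E x := by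
    intro t x ht
    have h := hstabE ((tx x)⁻¹ * t) (by rw [mul_smul, ht, inv_smul_eq_iff, htx])
    simp only [map_mul, map_inv] at h
    simp only [E]
    conv_rhs => rw [← h]
    group
  have hequi : ∀ (t : T) (x : X), q (ι t) * E x * (q (ι t))⁻¹ = E (t • x) := by
    intro t x
    rw [← hE (t * tx x) (t • x) (by rw [mul_smul, htx]), map_mul, map_mul]
    simp only [E]
    group
  have hEx0 : E x0 = q e := (hE 1 x0 (one_smul _ _)).symm.trans (by simp)
  have h3 : ∀ x, E x ^ 3 = 1 := fun x => by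
    simp only [E, conj_pow]
    rw [← map_pow q e, hrel (e ^ 3) (by simp [S])]
    simp
  have h2 : ∀ x y, x ≠ y → (E x * E y) ^ 2 = 1 := by
    intro x y hxy
    obtain ⟨t, h1', h2'⟩ := hpair x y hxy
    have he1 : E x1 = q (ι t1) * q e * (q (ι t1))⁻¹ := (hE t1 x1 ht1).symm
    have hb : (E x0 * E x1) ^ 2 = 1 := by
      rw [hEx0, he1, ← map_inv, ← map_mul, ← map_mul, ← map_mul, ← map_pow]
      exact hrel _ (by simp [S])
    rw [← h1', ← h2', ← hequi, ← hequi, conj_mul, conj_pow, hb]
    simp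
  set L := Subgroup.closure (Set.range E) with hL
  have hTL : ∀ (t : T) (z : C ⧸ N), z ∈ L → q (ι t) * z * (q (ι t))⁻¹ ∈ L := by
    intro t z hz
    refine (show L ≤ L.comap (MulAut.conj (q (ι t))).toMonoidHom from ?_) hz
    rw [hL, Subgroup.closure_le]
    rintro _ ⟨x, rfl⟩
    exact Subgroup.subset_closure ⟨t • x, by simp [hequi]⟩
  have heL : q e ∈ L := Subgroup.subset_closure ⟨x0, hEx0⟩
  have hgen : ∀ z : C, q z ∈ Subgroup.normalizer (L : Set (C ⧸ N)) := by
    intro z
    induction z using Monoid.Coprod.induction_on with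
    | inl t =>
      rw [Subgroup.mem_normalizer_iff]
      intro h
      refine ⟨hTL t h, fun hh => ?_⟩
      have := hTL t⁻¹ _ hh
      simp only [map_inv, inv_inv] at this
      convert this using 1
      simp only [ι]
      group
    | inr f =>
      have hf : q (Monoid.Coprod.inr f) ∈ L := by
        have : (⊤ : Subgroup (FreeGroup (Fin 1))) ≤ L.comap (q.comp Monoid.Coprod.inr) := by
          rw [← FreeGroup.closure_range_of, Subgroup.closure_le]
          rintro _ ⟨i, rfl⟩
          rw [Fin.fin_one_eq_zero i]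
          exact heL
        exact this (Subgroup.mem_top f)
      exact Subgroup.le_normalizer hf
    | mul p p' hp hp' => rw [map_mul]; exact mul_mem hp hp'
  have hLn : L.Normal := by
    rw [← Subgroup.normalizer_eq_top_iff, eq_top_iff]
    intro z _
    obtain ⟨z, rfl⟩ := QuotientGroup.mk'_surjective N z
    exact hgen z
  have hGL : G ≤ L.comap q := by
    rw [Subgroup.closure_le]
    rintro _ ⟨t, rfl⟩
    simp only [SetLike.mem_coe, Subgroup.mem_comap, map_mul, map_inv]
    exact Subgroup.subset_closure ⟨t • x0, (hE t _ rfl).symm⟩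
  have huL : q (ι u) ∈ L := by
    have := hrel (ι u * w⁻¹) (by simp [S])
    rw [map_mul, map_inv, mul_inv_eq_one] at this
    rw [this]
    exact hGL hwG
  have hιL : ∀ t, q (ι t) ∈ L := by
    have : (⊤ : Subgroup T) ≤ L.comap (q.comp ι) := by
      rw [← hu]
      exact Subgroup.normalClosure_le_normal (by simpa using huL)
    exact fun t => this (Subgroup.mem_top t)
  have hLtop : L = ⊤ := by
    rw [eq_top_iff]
    rintro z -
    obtain ⟨z, rfl⟩ := QuotientGroup.mk'_surjective N z
    induction z using Monoid.Coprod.induction_on with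
    | inl t => exact hιL t
    | inr f =>
      have : (⊤ : Subgroup (FreeGroup (Fin 1))) ≤ L.comap (q.comp Monoid.Coprod.inr) := by
        rw [← FreeGroup.closure_range_of, Subgroup.closure_le]
        rintro _ ⟨i, rfl⟩
        rw [Fin.fin_one_eq_zero i]
        exact heL
      exact this (Subgroup.mem_top f)
    | mul p p' hp hp' => rw [map_mul]; exact mul_mem hp hp'
  obtain ⟨hfin, hle⟩ := finite_closure_range E h3 h2
  rw [← hL, hLtop] at hfin hle
  rw [Nat.card_congr Subgroup.topEquiv.toEquiv] at hle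
  have hfin' : Finite (C ⧸ N) := Finite.of_equiv _ Subgroup.topEquiv.toEquiv
  have : Nontrivial (X ⊕ Fin 2) := ⟨⟨a, b, hab⟩⟩
  refine mem_normalClosure_of_card_le Φ hΦs _ hS hfin' ?_ c hc
  show Nat.card (C ⧸ N) ≤ _
  have h4 := two_mul_card_alt (β := X ⊕ Fin 2)
  simp only [Fintype.card_sum, Fintype.card_fin] at h4
  omega

end Cfsg.Agent.ShortPres
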