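import Cfsg.Agent.CurtisTitsA.Basic
import Cfsg.Agent.SL2Pres.Matrices

/-!
# Permutation matrices and rank one blocks inside `SL(n, F)`
-/

set_option autoImplicit false

namespace Cfsg.Agent.ShortPres

open Matrix Cfsg.Agent.SL2Pres Cfsg.Agent.CurtisTitsA Cfsg.Agent.SLMult
open scoped MatrixGroups

universe u

variable {F : Type u} [Field F] {n : ℕ}

/-- Conjugation by the transposition of the two coordinates. -/
def flip2 : SL(2, F) →* SL(2, F) where
  toFun s := ⟨!![s.1 1 1, s.1 1 0; s.1 0 1, s.1 0 0], by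
    have h := s.2
    rw [det_fin_two] at h ⊢
    simp
    linear_combination h⟩
  map_one' := Subtype.ext (by
    ext i j; fin_cases i <;> fin_cases j <;> simp)
  map_mul' s t := Subtype.ext (by
    show _ = (_ : Matrix (Fin 2) (Fin 2) F) * _
    ext i j
    fin_cases i <;> fin_cases j <;> simp [Matrix.mul_apply, Fin.sum_univ_two] <;> ring)

theorem flip2_coe (s : SL(2, F)) :
    (flip2 s).1 = !![s.1 1 1, s.1 1 0; s.1 0 1, s.1 0 0] := rfl

theorem flip2_flip2 (s : SL(2, F)) : flip2 (flip2 s) = s :=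
  Subtype.ext (by
    rw [flip2_coe, flip2_coe]
    ext i j
    fin_cases i <;> fin_cases j <;> simp)

theorem uM_eq_tx (b : F) : uM b = tx (0 : Fin 2) 1 b := by
  rw [tx_eq (by decide : (0 : Fin 2) ≠ 1)]
  apply Subtype.ext
  rw [Matrix.SpecialLinearGroup.transvection_coe, uM_coe]
  ext i j
  fin_cases i <;> fin_cases j <;> simp [Matrix.transvection]

theorem flip2_tx01 (b : F) : flip2 (tx (0 : Fin 2) 1 b) = tx (1 : Fin 2) 0 b := by
  rw [← uM_eq_tx, tx_eq (by decide : (1 : Fin 2) ≠ 0)]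
  apply Subtype.ext
  rw [Matrix.SpecialLinearGroup.transvection_coe]
  show (!![(uM b).1 1 1, (uM b).1 1 0; (uM b).1 0 1, (uM b).1 0 0] : Matrix (Fin 2) (Fin 2) F) = _
  rw [uM_coe]
  ext i j
  fin_cases i <;> fin_cases j <;> simp [Matrix.transvection]

theorem flip2_tx10 (b : F) : flip2 (tx (1 : Fin 2) 0 b) = tx (0 : Fin 2) 1 b := by
  rw [← flip2_tx01, flip2_flip2]

theorem flip2_dM (a : Fˣ) : flip2 (dM a) = (dM a)⁻¹ := by
  apply eq_inv_of_mul_eq_one_left
  apply Subtype.ext
  show (!![(dM a).1 1 1, (dM a).1 1 0; (dM a).1 0 1, (dM a).1 0 0] : Matrix (Fin 2) (Fin 2) F) *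
    (dM a).1 = 1
  rw [dM_coe]
  ext i j
  fin_cases i <;> fin_cases j <;> simp [Matrix.mul_apply, Fin.sum_univ_two]

/-- Permutation matrices of even permutations. -/
def permMat : alternatingGroup (Fin n) →* SpecialLinearGroup (Fin n) F where
  toFun σ := ⟨(σ.1⁻¹).permMatrix F, by
    rw [det_permutation, Equiv.Perm.sign_inv, Equiv.Perm.mem_alternatingGroup.1 σ.2]; simp⟩
  map_one' := Subtype.ext (by simp)
  map_mul' σ τ := Subtype.ext (by
    show ((σ.1 * τ.1)⁻¹).permMatrix F = _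
    rw [_root_.mul_inv_rev, permMatrix_mul]
    rfl)

theorem permMat_mulVec (g : alternatingGroup (Fin n)) (v : Fin n → F) (r : Fin n) :
    ((permMat g : SpecialLinearGroup (Fin n) F).1 *ᵥ v) r = v ((g.1⁻¹ : Equiv.Perm (Fin n)) r) := by
  show ((g.1⁻¹).permMatrix F *ᵥ v) r = _
  rw [permMatrix_mulVec]
  rfl

theorem permMat_conj (g : alternatingGroup (Fin n)) {i j : Fin n} (hij : i ≠ j) (a : F) :
    permMat g * tx i j a * (permMat g)⁻¹ = tx (g.1 i) (g.1 j) a := by
  have hij' : g.1 i ≠ g.1 j := g.1.injective.ne hij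
  rw [mul_inv_eq_iff_eq_mul]
  refine Classical.sl_ext_mulVec fun v => funext fun r => ?_
  rw [tx_eq hij, tx_eq hij']
  simp only [Matrix.SpecialLinearGroup.coe_mul, ← Matrix.mulVec_mulVec,
    Matrix.SpecialLinearGroup.transvection_coe]
  rw [permMat_mulVec, add_mulVec, add_mulVec, one_mulVec, one_mulVec,
    Pi.add_apply, Pi.add_apply, permMat_mulVec]
  congr 1
  rw [single_mulVec, single_mulVec, permMat_mulVec]
  by_cases hr : r = g.1 i
  · subst hr
    simp [Function.update]
  · have h' : (g.1⁻¹ : Equiv.Perm (Fin n)) r ≠ i := fun h => hr (by rw [← h]; simp)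
    rw [Function.update_of_ne h', Function.update_of_ne hr]
    rfl

variable [Fintype F]

theorem emb_swap {a b : Fin n} (h : a ≠ b) (s : SL(2, F)) :
    emb h.symm s = emb h (flip2 s) := by
  refine DFunLike.congr_fun (f := emb (F := F) h.symm) (g := (emb (F := F) h).comp flip2) ?_ s
  refine hom_ext2 (fun c => ?_) fun c => ?_
  · rw [MonoidHom.comp_apply, flip2_tx01, emb_tx01, emb_tx10]
  · rw [MonoidHom.comp_apply, flip2_tx10, emb_tx10, emb_tx01]

theorem emb_conj (g : alternatingGroup (Fin n)) {a b : Fin n} (h : a ≠ b) (s : SL(2, F)) :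
    permMat g * emb h s * (permMat g)⁻¹ = emb (g.1.injective.ne h) s := by
  refine DFunLike.congr_fun
    (f := (MulAut.conj (permMat g : SpecialLinearGroup (Fin n) F)).toMonoidHom.comp (emb (F := F) h))
    (g := emb (F := F) (g.1.injective.ne h)) ?_ s
  refine hom_ext2 (fun c => ?_) fun c => ?_
  · simp only [MonoidHom.comp_apply, MulEquiv.coe_toMonoidHom, MulAut.conj_apply, emb_tx01]
    exact permMat_conj g h c
  · simp only [MonoidHom.comp_apply, MulEquiv.coe_toMonoidHom, MulAut.conj_apply, emb_tx10]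
    exact permMat_conj g h.symm c

omit [Fintype F] in
theorem commute_of_tx {G : Type*} [Group G] (f : SL(2, F) →* G) (z : G)
    (h1 : ∀ c, Commute (f (tx (0 : Fin 2) 1 c)) z) (h2 : ∀ c, Commute (f (tx (1 : Fin 2) 0 c)) z)
    (s : SL(2, F)) : Commute (f s) z := by
  have : f = (MulAut.conj z).toMonoidHom.comp f := by
    refine hom_ext2 (fun c => ?_) fun c => ?_
    · simp only [MonoidHom.comp_apply, MulEquiv.coe_toMonoidHom, MulAut.conj_apply]
      rw [← (h1 c).eq, mul_inv_cancel_right]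
    · simp only [MonoidHom.comp_apply, MulEquiv.coe_toMonoidHom, MulAut.conj_apply]
      rw [← (h2 c).eq, mul_inv_cancel_right]
  have e := DFunLike.congr_fun this s
  simp only [MonoidHom.comp_apply, MulEquiv.coe_toMonoidHom, MulAut.conj_apply,
    eq_mul_inv_iff_mul_eq] at e
  exact e

theorem emb_disjoint {a b c d : Fin n} (hab : a ≠ b) (hcd : c ≠ d) (hac : a ≠ c) (had : a ≠ d)
    (hbc : b ≠ c) (hbd : b ≠ d) (s t : SL(2, F)) : Commute (emb hab s) (emb hcd t) := by
  refine commute_of_tx (emb hab) _ (fun x => ?_) (fun x => ?_) s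
  · rw [emb_tx01]
    refine (commute_of_tx (emb hcd) _ (fun y => ?_) (fun y => ?_) t).symm
    · rw [emb_tx01]; exact tx_comm hcd hab (Ne.symm had) (Ne.symm hbc) _ _
    · rw [emb_tx10]; exact tx_comm hcd.symm hab (Ne.symm hac) (Ne.symm hbd) _ _
  · rw [emb_tx10]
    refine (commute_of_tx (emb hcd) _ (fun y => ?_) (fun y => ?_) t).symm
    · rw [emb_tx01]; exact tx_comm hcd hab.symm (Ne.symm hbd) (Ne.symm hac) _ _
    · rw [emb_tx10]; exact tx_comm hcd.symm hab.symm (Ne.symm hbc) (Ne.symm had) _ _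

theorem emb_dM_coe {a b : Fin n} (h : a ≠ b) (t : Fˣ) :
    (emb h (dM t) : SpecialLinearGroup (Fin n) F).1 = diagonal (dd a b (t : F)) := by
  refine ext_of_mulVec_single fun c => funext fun r => ?_
  rw [mulVec_diagonal]
  obtain ⟨e1, e2, e3⟩ := emb_act h (dM t) (Pi.single c (1 : F))
  by_cases ra : r = a
  · subst ra
    rw [e1, dM_coe]
    simp [dd]
  by_cases rb : r = b
  · subst rb
    rw [e2, dM_coe]
    simp [dd, h.symm]
  rw [e3 r ra rb]
  simp [dd, ra, rb]

theorem emb_dM_conj {a b : Fin n} (h : a ≠ b) (t : Fˣ) {i j : Fin n} (hij : i ≠ j) (x y : F)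
    (hxy : dd a b (t : F) i * x = y * dd a b (t : F) j) :
    emb h (dM t) * tx i j x * (emb h (dM t))⁻¹ = tx i j y :=
  diagonal_conj_tx (emb_dM_coe h t) hij hxy

theorem emb_dM_comm {a b c d : Fin n} (h : a ≠ b) (h' : c ≠ d) (t t' : Fˣ) :
    Commute (emb h (dM t) : SpecialLinearGroup (Fin n) F) (emb h' (dM t')) := by
  apply Subtype.ext
  show (emb h (dM t) : SpecialLinearGroup (Fin n) F).1 * _ = _ * _
  rw [emb_dM_coe, emb_dM_coe, diagonal_mul_diagonal, diagonal_mul_diagonal]
  exact congrArg diagonal (funext fun r => mul_comm _ _)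

end Cfsg.Agent.ShortPres
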