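import Cfsg.Agent.ShortPres.SLModel

/-!
# The Steinberg relations from a bounded set of relations

The root elements are `L i j (uM a)`, the torus elements `L i j (dM ν)`.
-/

set_option autoImplicit false

namespace Cfsg.Agent.ShortPres

open Cfsg.Agent.SL2Pres Cfsg.Agent.SLMult
open scoped commutatorElement MatrixGroups

universe u v

section Scalars

variable {F : Type u} [Field F] [Fintype F]

theorem all_of_step {ν : Fˣ} (hν : orderOf ν = Fintype.card F - 1) {m : Fˣ} (hm : m = ν ∨ m = ν⁻¹)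
    (Q : F → Prop) (h0 : Q 0) (h1 : Q 1) (hs : ∀ x, Q x → Q ((m : F) * x)) (x : F) : Q x := by
  have hp : ∀ k : ℕ, Q ((m : F) ^ k) := by
    intro k
    induction k with
    | zero => simpa using h1
    | succ k ih => rw [pow_succ']; exact hs _ ih
  rcases eq_or_ne x 0 with rfl | hx
  · exact h0
  rcases hm with rfl | rfl
  · obtain ⟨k, rfl⟩ := exists_pow_eq hν hx
    exact hp k
  · obtain ⟨k, hk⟩ := exists_pow_eq hν (inv_ne_zero hx)
    rw [← inv_inv x, hk, ← inv_pow, ← Units.val_inv_eq_inv_val]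
    exact hp k

theorem all_two {ν : Fˣ} (hν : orderOf ν = Fintype.card F - 1) {m m' : Fˣ} (hm : m = ν ∨ m = ν⁻¹)
    (hm' : m' = ν ∨ m' = ν⁻¹) (Q : F → F → Prop) (ha : ∀ b, Q 0 b) (hb : ∀ a, Q a 0) (h1 : Q 1 1)
    (s1 : ∀ a b, Q a b → Q ((m : F) * a) b) (s2 : ∀ a b, Q a b → Q a ((m' : F) * b)) (a b : F) :
    Q a b :=
  all_of_step hν hm' (Q a) (hb a)
    (all_of_step hν hm (fun a => Q a 1) (ha 1) h1 (fun a h => s1 a 1 h) a) (fun b h => s2 a b h) b

theorem all_three {ν : Fˣ} (hν : orderOf ν = Fintype.card F - 1) (m : Fˣ) (Q : F → F → Prop)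
    (ha : ∀ b, Q 0 b) (hb : ∀ a, Q a 0) (hbase : ∀ γ < 3, Q ((ν : F) ^ γ) 1)
    (s1 : ∀ a b, Q a b → Q ((m : F) * a) ((ν : F) * b))
    (s3 : ∀ a b, Q a b → Q ((ν : F) ^ 3 * a) b) (a b : F) : Q a b := by
  have h3 : ∀ k γ, γ < 3 → Q ((ν : F) ^ (3 * k + γ)) 1 := by
    intro k
    induction k with
    | zero => simpa using hbase
    | succ k ih =>
      intro γ hγ
      rw [show 3 * (k + 1) + γ = 3 + (3 * k + γ) by ring, pow_add]
      exact s3 _ _ (ih γ hγ)
  have hone : ∀ x, Q x 1 := by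
    intro x
    rcases eq_or_ne x 0 with rfl | hx
    · exact ha 1
    obtain ⟨r, rfl⟩ := exists_pow_eq hν hx
    rw [← Nat.div_add_mod r 3]
    exact h3 _ _ (Nat.mod_lt _ (by norm_num))
  rcases eq_or_ne b 0 with rfl | hb'
  · exact hb a
  obtain ⟨t, rfl⟩ := exists_pow_eq hν hb'
  have hit : ∀ t : ℕ, ∀ x, Q ((m : F) ^ t * x) ((ν : F) ^ t) := by
    intro t
    induction t with
    | zero => intro x; simpa using hone x
    | succ t ih =>
      intro x
      rw [pow_succ' (ν : F), pow_succ' (m : F), mul_assoc]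
      exact s1 _ _ (ih x)
  simpa [← mul_assoc, ← mul_pow] using hit t (((m⁻¹ : Fˣ) : F) ^ t * a)

end Scalars

section Sys

variable {F : Type u} [Field F] {n : ℕ} {P : Type v} [Group P]

/-- The root element `x_ij(a)`. -/
def rootEl (L : Fin n → Fin n → (SL(2, F) →* P)) (i j : Fin n) (a : F) : P :=
  L i j (tx (0 : Fin 2) 1 a)

/-- The torus element `h_ij`. -/
def torEl (L : Fin n → Fin n → (SL(2, F) →* P)) (ν : Fˣ) (i j : Fin n) : P := L i j (dM ν)

variable {L : Fin n → Fin n → (SL(2, F) →* P)}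

theorem rootEl_add (i j : Fin n) (a b : F) :
    rootEl L i j (a + b) = rootEl L i j a * rootEl L i j b := by
  rw [rootEl, tx_add (by decide), map_mul]; rfl

theorem rootEl_zero (i j : Fin n) : rootEl L i j (0 : F) = 1 := by
  rw [rootEl, tx_zero, map_one]

/-- `h` scales the root `(i, j)` by `c`. -/
def Acts (L : Fin n → Fin n → (SL(2, F) →* P)) (h : P) (i j : Fin n) (c : F) : Prop :=
  ∀ a, h * rootEl L i j a * h⁻¹ = rootEl L i j (c * a)

theorem Acts.inv {h : P} {i j : Fin n} {c : Fˣ} (hh : Acts L h i j (c : F)) :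
    Acts L h⁻¹ i j ((c⁻¹ : Fˣ) : F) := by
  intro a
  have := hh (((c⁻¹ : Fˣ) : F) * a)
  rw [← mul_assoc, Units.mul_inv, one_mul] at this
  rw [← this, inv_inv]
  group

theorem Acts.mul {h h' : P} {i j : Fin n} {c c' : F} (hh : Acts L h i j c) (hh' : Acts L h' i j c') :
    Acts L (h * h') i j (c * c') := by
  intro a
  rw [show h * h' * rootEl L i j a * (h * h')⁻¹ = h * (h' * rootEl L i j a * h'⁻¹) * h⁻¹ by group,
    hh' a, hh, mul_assoc]

theorem Acts.commutator {h : P} {i j k l r s : Fin n} {c1 c2 c3 : F} (a1 : Acts L h i j c1)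
    (a2 : Acts L h k l c2) (a3 : Acts L h r s c3) (hc : c3 = c1 * c2) {a b : F}
    (e : ⁅rootEl L i j a, rootEl L k l b⁆ = rootEl L r s (a * b)) :
    ⁅rootEl L i j (c1 * a), rootEl L k l (c2 * b)⁆ = rootEl L r s (c1 * a * (c2 * b)) := by
  rw [show c1 * a * (c2 * b) = c3 * (a * b) by rw [hc]; ring, ← a1 a, ← a2 b, ← a3 (a * b), ← e]
  simp only [commutatorElement_def]
  group

theorem Acts.commute {h : P} {i j k l : Fin n} {c1 c2 : F} (a1 : Acts L h i j c1)
    (a2 : Acts L h k l c2) {a b : F} (e : Commute (rootEl L i j a) (rootEl L k l b)) :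
    Commute (rootEl L i j (c1 * a)) (rootEl L k l (c2 * b)) := by
  rw [← a1 a, ← a2 b]
  exact e.map (MulAut.conj h).toMonoidHom

variable [Fintype F]

/-- The Steinberg relations follow from relations at few scalars. -/
theorem steinberg_of_data (hn : 3 ≤ n) {ν : Fˣ} (hν : orderOf ν = Fintype.card F - 1) (Γ : Finset ℕ)
    (hΓ0 : 0 ∈ Γ) (hΓ3 : n = 3 → ∀ γ < 3, γ ∈ Γ)
    (hsym : ∀ i j, i ≠ j → ∀ s, L j i s = L i j (flip2 s))
    (hdisj : ∀ i j k l : Fin n, i ≠ j → k ≠ l → i ≠ k → i ≠ l → j ≠ k → j ≠ l →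
      ∀ s t, Commute (L i j s) (L k l t))
    (hact : ∀ i j k, i ≠ j → i ≠ k → j ≠ k →
      Commute (torEl L ν j k) (torEl L ν i j) ∧ Commute (torEl L ν i k) (torEl L ν i j) ∧
      torEl L ν j k * rootEl L i j 1 * (torEl L ν j k)⁻¹ = rootEl L i j ((ν⁻¹ : Fˣ) : F) ∧
      torEl L ν i k * rootEl L i j 1 * (torEl L ν i k)⁻¹ = rootEl L i j (ν : F))
    (hbase : ∀ i j k, i ≠ j → i ≠ k → j ≠ k → ∀ γ ∈ Γ,
      ⁅rootEl L i j ((ν : F) ^ γ), rootEl L j k 1⁆ = rootEl L i k ((ν : F) ^ γ) ∧
      Commute (rootEl L i j ((ν : F) ^ γ)) (rootEl L i k 1) ∧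
      Commute (rootEl L i j ((ν : F) ^ γ)) (rootEl L k j 1)) :
    (∀ i j k l : Fin n, i ≠ j → k ≠ l → j ≠ k → i ≠ l → ∀ a b : F,
        Commute (rootEl L i j a) (rootEl L k l b)) ∧
      ∀ i j k : Fin n, i ≠ j → j ≠ k → i ≠ k → ∀ a b : F,
        ⁅rootEl L i j a, rootEl L j k b⁆ = rootEl L i k (a * b) := by
  have hself : ∀ i j, Acts L (torEl L ν i j) i j ((ν : F) ^ 2) := by
    intro i j a
    simp only [torEl, rootEl]
    rw [← uM_eq_tx, ← uM_eq_tx, ← map_inv, ← map_mul, ← map_mul, dM_conj_uM]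
  have hrev : ∀ i j, i ≠ j → torEl L ν j i = (torEl L ν i j)⁻¹ := by
    intro i j hij
    rw [torEl, hsym i j hij, flip2_dM, map_inv]; rfl
  have spread : ∀ i j (h : P) (c : F), Commute h (torEl L ν i j) →
      h * rootEl L i j 1 * h⁻¹ = rootEl L i j c → Acts L h i j c := by
    intro i j h c hc h1
    let S : AddSubgroup F :=
      { carrier := {a | h * rootEl L i j a * h⁻¹ = rootEl L i j (c * a)}
        zero_mem' := by simp [rootEl_zero]
        add_mem' := fun {a b} ha hb => by
          simp only [Set.mem_setOf_eq] at ha hb ⊢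
          rw [mul_add, rootEl_add, rootEl_add, ← ha, ← hb]; group
        neg_mem' := fun {a} ha => by
          simp only [Set.mem_setOf_eq] at ha ⊢
          have hneg : ∀ x : F, rootEl L i j (-x) = (rootEl L i j x)⁻¹ := fun x =>
            eq_inv_of_mul_eq_one_left (by rw [← rootEl_add, neg_add_cancel, rootEl_zero])
          rw [mul_neg, hneg, hneg, ← ha]; group }
    have hstep : ∀ a, a ∈ S → (ν : F) ^ 2 * a ∈ S := by
      intro a ha
      show h * rootEl L i j ((ν : F) ^ 2 * a) * h⁻¹ = rootEl L i j (c * ((ν : F) ^ 2 * a))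
      rw [← hself i j a, mul_left_comm, ← hself i j (c * a), ← (ha : h * _ * h⁻¹ = _)]
      rw [show h * (torEl L ν i j * rootEl L i j a * (torEl L ν i j)⁻¹) * h⁻¹ =
        (h * torEl L ν i j) * rootEl L i j a * ((torEl L ν i j)⁻¹ * h⁻¹) by group,
        hc.eq, show (torEl L ν i j)⁻¹ * h⁻¹ = h⁻¹ * (torEl L ν i j)⁻¹ from hc.inv_inv.eq.symm]
      group
    intro a
    refine SLMult.Sys.squares_generate S (fun x => ?_) a
    rcases eq_or_ne x 0 with rfl | hx
    · simp
    obtain ⟨k, rfl⟩ := exists_pow_eq hν hx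
    rw [← mul_pow, ← pow_two]
    clear hx
    induction k with
    | zero =>
      show h * _ * h⁻¹ = _
      rw [pow_zero, mul_one, h1]
    | succ k ih => rw [pow_succ']; exact hstep _ ih
  -- the six kinds of torus actions
  have A2 : ∀ i j k, i ≠ j → i ≠ k → j ≠ k → Acts L (torEl L ν j k) i j ((ν⁻¹ : Fˣ) : F) :=
    fun i j k a b c => spread i j _ _ (hact i j k a b c).1 (hact i j k a b c).2.2.1
  have A3 : ∀ i j k, i ≠ j → i ≠ k → j ≠ k → Acts L (torEl L ν i k) i j (ν : F) :=
    fun i j k a b c => spread i j _ _ (hact i j k a b c).2.1 (hact i j k a b c).2.2.2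
  have A5 : ∀ i j k, i ≠ j → i ≠ k → j ≠ k → Acts L (torEl L ν k i) i j ((ν⁻¹ : Fˣ) : F) := by
    intro i j k a b c
    rw [hrev i k b]
    exact (A3 i j k a b c).inv
  have A6 : ∀ i j k, i ≠ j → i ≠ k → j ≠ k → Acts L (torEl L ν k j) i j (ν : F) := by
    intro i j k a b c
    rw [hrev j k c]
    simpa using (A2 i j k a b c).inv
  have A0 : ∀ i j k l, i ≠ j → k ≠ l → i ≠ k → i ≠ l → j ≠ k → j ≠ l →
      Acts L (torEl L ν k l) i j 1 := by
    intro i j k l a b c d e f x
    simp only [rootEl, torEl, one_mul]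
    rw [← (hdisj i j k l a b c d e f _ _).eq, mul_inv_cancel_right]
  have four : ∀ i j k : Fin n, n ≠ 3 → ∃ l, l ≠ i ∧ l ≠ j ∧ l ≠ k := by
    intro i j k h
    obtain ⟨l, hl⟩ : ∃ l, l ∉ ({i, j, k} : Finset (Fin n)) := by
      by_contra hcon
      push_neg at hcon
      have := (Finset.card_le_card (fun x _ => hcon x :
        (Finset.univ : Finset (Fin n)) ⊆ {i, j, k})).trans Finset.card_le_three
      rw [Finset.card_univ, Fintype.card_fin] at this
      omega
    simp only [Finset.mem_insert, Finset.mem_singleton, not_or] at hl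
    exact ⟨l, hl⟩
  have hrel : ∀ i j k : Fin n, i ≠ j → j ≠ k → i ≠ k → ∀ a b : F,
      ⁅rootEl L i j a, rootEl L j k b⁆ = rootEl L i k (a * b) := by
    intro i j k hij hjk hik
    have h0a : ∀ b : F, ⁅rootEl L i j 0, rootEl L j k b⁆ = rootEl L i k (0 * b) := fun b => by
      simp [rootEl_zero]
    have h0b : ∀ a : F, ⁅rootEl L i j a, rootEl L j k 0⁆ = rootEl L i k (a * 0) := fun a => by
      simp [rootEl_zero]
    by_cases h3 : n = 3
    · refine all_three hν ν _ h0a h0b (fun γ hγ => ?_) (fun a b e => ?_) (fun a b e => ?_)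
      · rw [mul_one]; exact (hbase i j k hij hik hjk γ (hΓ3 h3 γ hγ)).1
      · exact Acts.commutator (A3 i j k hij hik hjk) (A6 j k i hjk hij.symm hik.symm) (hself i k)
          (pow_two _) e
      · have := Acts.commutator ((A3 i j k hij hik hjk).mul (hself i j))
          ((A6 j k i hjk hij.symm hik.symm).mul (A5 j k i hjk hij.symm hik.symm))
          ((hself i k).mul (A3 i k j hik hij hjk.symm))
          (show ((ν : F) ^ 2) * ν = (ν : F) * (ν : F) ^ 2 * ((ν : F) * ((ν⁻¹ : Fˣ) : F)) by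
            rw [Units.mul_inv]; ring) e
        rw [Units.mul_inv, one_mul, ← pow_succ'] at this
        exact this
    · obtain ⟨l, li, lj, lk⟩ := four i j k h3
      refine all_two hν (Or.inl rfl) (Or.inr rfl) _ h0a h0b ?_ (fun a b e => ?_) (fun a b e => ?_)
      · have := (hbase i j k hij hik hjk 0 hΓ0).1
        rw [pow_zero] at this
        rw [this, mul_one]
      · have := Acts.commutator (A3 i j l hij li.symm lj.symm)
          (A0 j k i l hjk li.symm hij.symm lj.symm hik.symm lk.symm)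
          (A3 i k l hik li.symm lk.symm) (mul_one _).symm e
        rwa [one_mul] at this
      · have := Acts.commutator (A0 i j k l hij lk.symm hik li.symm hjk lj.symm)
          (A2 j k l hjk lj.symm lk.symm) (A2 i k l hik li.symm lk.symm) (one_mul _).symm e
        rwa [one_mul] at this
  have hc : ∀ i j k : Fin n, i ≠ j → i ≠ k → j ≠ k → ∀ a b : F,
      Commute (rootEl L i j a) (rootEl L i k b) := by
    intro i j k hij hik hjk
    have h0a : ∀ b : F, Commute (rootEl L i j 0) (rootEl L i k b) := fun b => by simp [rootEl_zero]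
    have h0b : ∀ a : F, Commute (rootEl L i j a) (rootEl L i k 0) := fun a => by simp [rootEl_zero]
    by_cases h3 : n = 3
    · refine all_three hν ν⁻¹ _ h0a h0b (fun γ hγ => (hbase i j k hij hik hjk γ (hΓ3 h3 γ hγ)).2.1)
        (fun a b e => ?_) (fun a b e => ?_)
      · exact Acts.commute (A2 i j k hij hik hjk) (A6 i k j hik hij hjk.symm) e
      · have := Acts.commute ((A2 i j k hij hik hjk).inv.mul (hself i j))
          ((A6 i k j hik hij hjk.symm).inv.mul (A3 i k j hik hij hjk.symm)) e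
        rwa [inv_inv, Units.inv_mul, one_mul, ← pow_succ'] at this
    · obtain ⟨l, li, lj, lk⟩ := four i j k h3
      refine all_two hν (Or.inr rfl) (Or.inr rfl) _ h0a h0b ?_ (fun a b e => ?_) (fun a b e => ?_)
      · simpa using (hbase i j k hij hik hjk 0 hΓ0).2.1
      · have := Acts.commute (A2 i j l hij li.symm lj.symm)
          (A0 i k j l hik lj.symm hij li.symm hjk.symm lk.symm) e
        rwa [one_mul] at this
      · have := Acts.commute (A0 i j k l hij lk.symm hik li.symm hjk lj.symm)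
          (A2 i k l hik li.symm lk.symm) e
        rwa [one_mul] at this
  have hd : ∀ i j k : Fin n, i ≠ j → i ≠ k → j ≠ k → ∀ a b : F,
      Commute (rootEl L i j a) (rootEl L k j b) := by
    intro i j k hij hik hjk
    have h0a : ∀ b : F, Commute (rootEl L i j 0) (rootEl L k j b) := fun b => by simp [rootEl_zero]
    have h0b : ∀ a : F, Commute (rootEl L i j a) (rootEl L k j 0) := fun a => by simp [rootEl_zero]
    by_cases h3 : n = 3
    · refine all_three hν ν⁻¹ _ h0a h0b (fun γ hγ => (hbase i j k hij hik hjk γ (hΓ3 h3 γ hγ)).2.2)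
        (fun a b e => ?_) (fun a b e => ?_)
      · exact Acts.commute (A5 i j k hij hik hjk) (A3 k j i hjk.symm hik.symm hij.symm) e
      · have := Acts.commute ((A3 i j k hij hik hjk).mul (hself i j))
          ((A5 k j i hjk.symm hik.symm hij.symm).mul (A6 k j i hjk.symm hik.symm hij.symm)) e
        rwa [Units.inv_mul, one_mul, ← pow_succ'] at this
    · obtain ⟨l, li, lj, lk⟩ := four i j k h3
      refine all_two hν (Or.inl rfl) (Or.inl rfl) _ h0a h0b ?_ (fun a b e => ?_) (fun a b e => ?_)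
      · simpa using (hbase i j k hij hik hjk 0 hΓ0).2.2
      · have := Acts.commute (A3 i j l hij li.symm lj.symm)
          (A0 k j i l hjk.symm li.symm hik.symm lk.symm hij.symm lj.symm) e
        rwa [one_mul] at this
      · have := Acts.commute (A0 i j k l hij lk.symm hik li.symm hjk lj.symm)
          (A3 k j l hjk.symm lk.symm lj.symm) e
        rwa [one_mul] at this
  refine ⟨fun i j k l hij hkl hjk hil a b => ?_, hrel⟩
  by_cases hik : i = k
  · subst hik
    by_cases hjl : j = l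
    · subst hjl
      show _ = _
      rw [← rootEl_add, ← rootEl_add, add_comm]
    · exact hc i j l hij hil hjl a b
  · by_cases hjl : j = l
    · subst hjl
      exact hd i j k hij hik hjk a b
    · exact hdisj i j k l hij hkl hik hil hjk hjl _ _

end Sys

end Cfsg.Agent.ShortPres
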